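import Cfsg.Agent.Mrg.Omega.NO3S.Basic
import Cfsg.Agent.Mrg.Omega.FF.GlobEnd


/-!
# The FF theorem (`FF/GlobEnd.lean`, proved) under the hypotheses of NO-3S

* `HypJ.concl` : `J(S) ≰ O₂(P)`: no over-offender, and the type of `V_P` (`NatK` or `SymK`);
* `Hyp.conclM` : the same if `V_P` is an FF-module for `P / C_P(V_P)` (module form `ConclM`);
* `concl_of_parS` : for every `R ∈ P*(S)` with `J(S) ≰ O₂(R)`.
-/

set_option autoImplicit false

namespace Cfsg.Agent.Omega.NO3S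

open Subgroup Cfsg Cfsg.Agent.ZN Cfsg.Agent.Omega.MinPar Cfsg.Agent.Omega.Frame Cfsg.Agent.Omega.FrameNOFF

universe u

variable {G : Type u} [Group G] [Finite G] {S : Sylow 2 G} {P : Subgroup G}

theorem HypJ.concl (h : HypJ S P) :
    FFThm.NoOver (zl (S : Subgroup G) P) P ∧ FFThm.Concl (S : Subgroup G) P :=
  h.ff FF.Glob.ffthm

theorem Hyp.conclM (h : Hyp S P) (h1 : FFMod (S : Subgroup G) P) :
    FFThm.NoOverM (zl (S : Subgroup G) P) P ∧ FFThm.ConclM (S : Subgroup G) P :=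
  h.ff FF.Glob.ffthmM h1

/-- The FF theorem for a member `R` of `P*(S)` with `J(S) ≰ O₂(R)`. -/
theorem concl_of_parS (hG : IsCharacteristicTwoType G) {R : Subgroup G} (hR : IsParS (S : Subgroup G) R)
    (hj : ¬ jj (S : Subgroup G) ≤ o2 R) :
    FFThm.NoOver (zl (S : Subgroup G) R) R ∧ FFThm.Concl (S : Subgroup G) R := by
  have hle : zl (S : Subgroup G) R ≤ zc (o2 R) := hR.isLoc.zl_le S hG
  have hel : IsElementaryAbelian 2 (zl (S : Subgroup G) R) :=
    ⟨⟨⟨fun a b => Subtype.ext (MinSimple.VModule.zc_comm _ _ (hle a.2) _ (hle b.2))⟩⟩,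
      fun a ha => MinSimple.VModule.zc_sq _ _ (hle ha)⟩
  have hVS : zl (S : Subgroup G) R ≤ (S : Subgroup G) := (hle.trans (zc_le _)).trans (hR.isLoc.o2_le S)
  obtain ⟨A, hA, hoff⟩ : ∃ A ∈ Cfsg.Agent.ZN.ChoiceBase.AA (S : Subgroup G),
      FFThm.Off (zl (S : Subgroup G) R) A := by
    by_contra hcon
    push Not at hcon
    apply hj
    rw [Cfsg.Agent.ZN.ChoiceBase.jj_eq]
    refine sSup_le fun A hA => ?_
    by_contra hAc
    refine hcon A hA (FFThm.off_of_AA hel hVS hA fun hc => hAc ?_)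
    rw [← hR.inf_centralizer S hG]
    exact le_inf hA.2.1 hc
  exact FF.Glob.ffthm G (S : Subgroup G) R
    ⟨hR.isLoc.le, S.isPGroup', fun _ _ hT hST => S.is_maximal' hT hST⟩ hR.toIsMinPar
    (hR.isLoc.char2 S hG) ⟨A, hA.2.1.trans hR.isLoc.le, hoff⟩

end Cfsg.Agent.Omega.NO3S
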