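import Mathlib
import Cfsg.Agent.ClassTwoFusion.Quad
import Cfsg.Agent.MinSimple.MinParabolic
import Cfsg.Agent.ZN.Map
import Cfsg.Agent.ZN.Facts
import Cfsg.Agent.Mrg.Omega.Assembly
import Cfsg.Agent.Mrg.Omega.OM.PG.Base
import Cfsg.Agent.PLocal.ElemAbSup
import Cfsg.Agent.ZN.ChoiceBase

section


/-!
# No over-offenders: the K-free reduction to minimal parabolics (helper114, #12842)

`H` acts on the finite abelian group `V`, `ff V A = |A| |C_V(A)|`.

* `ff_mul_le`: `ff A * ff B ≤ ff (A ⊔ B) * ff (A ⊓ B)` for commuting subgroups `A`, `B`;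
* `IsBest V Q A`: `A` is the smallest subgroup of `Q` with `ff V A` maximal (`Q` abelian): `exists_isBest`,
  `IsBest.unique`, `IsBest.map_conj` (normalised by `N_H(Q)`), `IsBest.lt`;
* `IsBest.le_o2`: `A ≤ O₂(P)` for all minimal parabolics `P` over a 2-group `T ≥ A` moving `C_V(T)`, if `P` has no
  over-offender on the subgroup generated by the `P`-conjugates of `C_V(T)`;
* `IsBest.le_map_of_mem_xx`: `A ≤ T ^ y` for all `y` in the subgroup `xx V T` generated by them;
* `no_over`: if `H = ⟨N_H(T), the minimal parabolics over T moving C_V(T)⟩` there is no over-offender at all;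
* `exact_alt`: a minimal exact offender lies in `O₂(P)` or meets it trivially, and then `V = ⟨C_V(T)^P⟩ C_V(A)`.
-/

set_option autoImplicit false

namespace Cfsg.Agent.Omega.NO3S.ML

open Subgroup Cfsg Cfsg.Agent.ClassTwoFusion.Quad Cfsg.Agent.MinSimple.MinParabolic Cfsg.Agent.ZN

variable {H : Type*} [Group H] {V : Type*} [Group V] [MulDistribMulAction H V]

section card

variable {G : Type*} [Group G] [Finite G]

omit [Finite G] in
theorem card_mul_relIndex {A B : Subgroup G} (h : A ≤ B) : Nat.card A * A.relIndex B = Nat.card B := by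
  rw [Subgroup.relIndex, ← Nat.card_congr (Subgroup.subgroupOfEquivOfLe h).toEquiv]
  exact Subgroup.card_mul_index _

omit [Finite G] in
/-- `|K L| |K ∩ L| = |K| |L|` -/
theorem card_sup_mul {K L : Subgroup G} (h : L ≤ normalizer (K : Set G)) :
    Nat.card (K ⊔ L : Subgroup G) * Nat.card (K ⊓ L : Subgroup G) = Nat.card K * Nat.card L := by
  have hKn : (K.subgroupOf (K ⊔ L)).Normal :=
    normal_subgroupOf_of_le_normalizer (sup_le le_normalizer h)
  have h1 := relIndex_sup_left (L.subgroupOf (K ⊔ L)) (K.subgroupOf (K ⊔ L))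
  rw [← Subgroup.subgroupOf_sup le_sup_left le_sup_right, Subgroup.subgroupOf_self,
    Subgroup.relIndex_subgroupOf le_sup_right, relIndex_top_right] at h1
  have h2 : Nat.card K * K.relIndex L = Nat.card (K ⊔ L : Subgroup G) := by
    rw [← h1]
    exact card_mul_relIndex le_sup_left
  have h3 : Nat.card (K ⊓ L : Subgroup G) * K.relIndex L = Nat.card L := by
    rw [← Subgroup.inf_relIndex_right K L]
    exact card_mul_relIndex inf_le_right
  calc _ = Nat.card (K ⊔ L : Subgroup G) * Nat.card (K ⊓ L : Subgroup G) := rfl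
    _ = Nat.card K * (Nat.card (K ⊓ L : Subgroup G) * K.relIndex L) := by rw [← h2]; ring
    _ = _ := by rw [h3]

omit [Finite G] in
theorem card_sup_mul_of_comm {K L : Subgroup G} (h : ∀ a ∈ K, ∀ b ∈ L, a * b = b * a) :
    Nat.card (K ⊔ L : Subgroup G) * Nat.card (K ⊓ L : Subgroup G) = Nat.card K * Nat.card L := by
  refine card_sup_mul ((?_ : L ≤ centralizer (K : Set G)).trans (centralizer_le_normalizer _))
  intro b hb
  exact mem_centralizer_iff.mpr fun a ha => h a ha b hb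

end card

/-- `|A| |C_V(A)|` -/
noncomputable def ff (V : Type*) [Group V] [MulDistribMulAction H V] (A : Subgroup H) : ℕ :=
  Nat.card A * Nat.card (cv V (A : Set H))

/-- the elements of `H` fixing `U` pointwise -/
def fx (U : Subgroup V) : Subgroup H where
  carrier := {x | ∀ u ∈ U, x • u = u}
  one_mem' := fun u _ => one_smul H u
  mul_mem' := fun {x y} hx hy u hu => by rw [mul_smul, hy u hu, hx u hu]
  inv_mem' := fun {x} hx u hu => by
    nth_rewrite 1 [← hx u hu]
    rw [inv_smul_smul]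

theorem mem_fx {U : Subgroup V} {x : H} : x ∈ fx U ↔ ∀ u ∈ U, x • u = u := Iff.rfl

theorem cv_sup (A B : Subgroup H) :
    cv V ((A ⊔ B : Subgroup H) : Set H) = cv V (A : Set H) ⊓ cv V (B : Set H) := by
  apply le_antisymm
  · exact le_inf (cv_anti (SetLike.coe_subset_coe.mpr le_sup_left))
      (cv_anti (SetLike.coe_subset_coe.mpr le_sup_right))
  · rintro v ⟨h1, h2⟩ x hx
    have h3 : A ⊔ B ≤ MulAction.stabilizer H v := sup_le (fun a ha => h1 a ha) (fun b hb => h2 b hb)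
    exact h3 hx

theorem cv_inf_le (A B : Subgroup H) :
    cv V (A : Set H) ⊔ cv V (B : Set H) ≤ cv V ((A ⊓ B : Subgroup H) : Set H) :=
  sup_le (cv_anti (SetLike.coe_subset_coe.mpr inf_le_left))
    (cv_anti (SetLike.coe_subset_coe.mpr inf_le_right))

theorem ff_bot : ff V (⊥ : Subgroup H) = Nat.card V := by
  have h1 : cv V ((⊥ : Subgroup H) : Set H) = ⊤ := by
    rw [eq_top_iff]
    intro v _ x hx
    rw [SetLike.mem_coe, mem_bot] at hx
    rw [hx, one_smul]
  rw [ff, h1, card_bot, one_mul, card_top]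

variable [Finite H] [Finite V]

omit [Finite H] in
/-- (1) -/
theorem ff_mul_le (hV : ∀ v w : V, v * w = w * v) {A B : Subgroup H}
    (h : ∀ a ∈ A, ∀ b ∈ B, a * b = b * a) : ff V A * ff V B ≤ ff V (A ⊔ B) * ff V (A ⊓ B) := by
  have h1 := card_sup_mul_of_comm h
  have h2 := card_sup_mul_of_comm (K := cv V (A : Set H)) (L := cv V (B : Set H))
    (fun a _ b _ => hV a b)
  rw [← cv_sup] at h2
  have h3 : Nat.card (cv V (A : Set H) ⊔ cv V (B : Set H) : Subgroup V) ≤
      Nat.card (cv V ((A ⊓ B : Subgroup H) : Set H)) := card_le_of_le (cv_inf_le A B)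
  unfold ff
  calc Nat.card A * Nat.card (cv V (A : Set H)) * (Nat.card B * Nat.card (cv V (B : Set H)))
      = (Nat.card A * Nat.card B) * (Nat.card (cv V (A : Set H)) * Nat.card (cv V (B : Set H))) := by
        ring
    _ = (Nat.card (A ⊔ B : Subgroup H) * Nat.card (A ⊓ B : Subgroup H)) *
        (Nat.card (cv V (A : Set H) ⊔ cv V (B : Set H) : Subgroup V) *
          Nat.card (cv V ((A ⊔ B : Subgroup H) : Set H))) := by rw [h1, h2]
    _ ≤ (Nat.card (A ⊔ B : Subgroup H) * Nat.card (A ⊓ B : Subgroup H)) *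
        (Nat.card (cv V ((A ⊓ B : Subgroup H) : Set H)) *
          Nat.card (cv V ((A ⊔ B : Subgroup H) : Set H))) := by gcongr
    _ = _ := by ring

theorem ff_pos (A : Subgroup H) : 0 < ff V A := Nat.mul_pos Nat.card_pos Nat.card_pos

/-- `A` is the smallest subgroup of `Q` with `ff V A` maximal. -/
structure IsBest (V : Type*) [Group V] [MulDistribMulAction H V] (Q A : Subgroup H) : Prop where
  le : A ≤ Q
  max : ∀ B ≤ Q, ff V B ≤ ff V A
  min : ∀ B ≤ Q, ff V A ≤ ff V B → A ≤ B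

theorem exists_isBest (hV : ∀ v w : V, v * w = w * v) {Q : Subgroup H}
    (hQ : ∀ a ∈ Q, ∀ b ∈ Q, a * b = b * a) : ∃ A, IsBest V Q A := by
  have : Nonempty {A : Subgroup H // A ≤ Q} := ⟨⟨⊥, bot_le⟩⟩
  obtain ⟨⟨A₀, hA₀⟩, h0⟩ := Finite.exists_max (fun A : {A : Subgroup H // A ≤ Q} => ff V A.1)
  have : Nonempty {A : Subgroup H // A ≤ Q ∧ ff V A₀ ≤ ff V A} := ⟨⟨A₀, hA₀, le_rfl⟩⟩
  obtain ⟨⟨A, hA, hA1⟩, h1⟩ := Finite.exists_min
    (fun A : {A : Subgroup H // A ≤ Q ∧ ff V A₀ ≤ ff V A} => Nat.card A.1)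
  have hmax : ∀ B ≤ Q, ff V B ≤ ff V A := fun B hB => (h0 ⟨B, hB⟩).trans hA1
  refine ⟨A, hA, hmax, fun B hB hAB => ?_⟩
  have h2 := ff_mul_le (V := V) hV (A := A) (B := B) (fun a ha b hb => hQ a (hA ha) b (hB hb))
  have h3 : ff V A * ff V B ≤ ff V A * ff V (A ⊓ B) :=
    h2.trans (Nat.mul_le_mul_right _ (hmax _ (sup_le hA hB)))
  have h4 : ff V A ≤ ff V (A ⊓ B) := hAB.trans (Nat.le_of_mul_le_mul_left h3 (ff_pos A))
  have h5 := h1 ⟨A ⊓ B, inf_le_left.trans hA, hA1.trans h4⟩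
  have h6 : A ⊓ B = A := Subgroup.eq_of_le_of_card_ge inf_le_left h5
  exact inf_eq_left.mp h6

namespace IsBest

variable {Q A : Subgroup H}

omit [Finite H] [Finite V] in
theorem unique {B : Subgroup H} (h : IsBest V Q A) (h' : IsBest V Q B) : A = B :=
  le_antisymm (h.min B h'.le (h'.max A h.le)) (h'.min A h.le (h.max B h'.le))

omit [Finite H] [Finite V] in
/-- (2) -/
theorem lt (h : IsBest V Q A) {B : Subgroup H} (hB : B < A) : ff V B < ff V A := by
  by_contra hcon
  push Not at hcon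
  exact hB.not_ge (h.min B (hB.le.trans h.le) hcon)

omit [Finite H] [Finite V] in
theorem ne_bot (h : IsBest V Q A) {E : Subgroup H} (hE : E ≤ Q) (h1 : Nat.card V < ff V E) :
    A ≠ ⊥ := by
  rintro rfl
  have := h.max E hE
  rw [ff_bot] at this
  omega

end IsBest

omit [Finite H] [Finite V] in
theorem cv_map_conj (g : H) (A : Subgroup H) {v : V} :
    g • v ∈ cv V ((A.map (MulAut.conj g).toMonoidHom : Subgroup H) : Set H) ↔ v ∈ cv V (A : Set H) := by
  constructor
  · intro h a ha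
    have h1 := h (g * a * g⁻¹) ⟨a, ha, rfl⟩
    rw [← mul_smul, inv_mul_cancel_right, mul_smul] at h1
    exact smul_left_cancel g h1
  · rintro h _ ⟨a, ha, rfl⟩
    change (g * a * g⁻¹) • g • v = g • v
    rw [← mul_smul, inv_mul_cancel_right, mul_smul, h a ha]

omit [Finite H] [Finite V] in
theorem ff_map_conj (g : H) (A : Subgroup H) :
    ff V (A.map (MulAut.conj g).toMonoidHom) = ff V A := by
  have h1 : Nat.card (A.map (MulAut.conj g).toMonoidHom : Subgroup H) = Nat.card A :=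
    card_map_of_injective (MulAut.conj g).injective
  have h2 : Nat.card (cv V ((A.map (MulAut.conj g).toMonoidHom : Subgroup H) : Set H)) =
      Nat.card (cv V (A : Set H)) := by
    have e : cv V ((A.map (MulAut.conj g).toMonoidHom : Subgroup H) : Set H) =
        (cv V (A : Set H)).map (MulDistribMulAction.toMulEquiv V g).toMonoidHom := by
      ext v
      constructor
      · intro h3
        rw [← smul_inv_smul g v, cv_map_conj] at h3
        exact ⟨g⁻¹ • v, h3, smul_inv_smul g v⟩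
      · rintro ⟨w, hw, rfl⟩
        exact (cv_map_conj g A).mpr hw
    rw [e]
    exact card_map_of_injective (MulDistribMulAction.toMulEquiv V g).injective
  rw [ff, ff, h1, h2]

namespace IsBest

variable {Q A : Subgroup H}

omit [Finite H] [Finite V] in
/-- `A` is normalised by `N_H(Q)` -/
theorem map_conj (h : IsBest V Q A) (g : H) :
    IsBest V (Q.map (MulAut.conj g).toMonoidHom) (A.map (MulAut.conj g).toMonoidHom) := by
  have key : ∀ B ≤ Q.map (MulAut.conj g).toMonoidHom, ∃ B' ≤ Q, B = B'.map (MulAut.conj g).toMonoidHom := by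
    intro B hB
    refine ⟨B.map (MulAut.conj g⁻¹).toMonoidHom, ?_, ?_⟩
    · rintro _ ⟨b, hb, rfl⟩
      obtain ⟨q, hq, e⟩ := hB hb
      have e' : g * q * g⁻¹ = b := e
      change g⁻¹ * b * g⁻¹⁻¹ ∈ Q
      rw [← e']
      have e2 : g⁻¹ * (g * q * g⁻¹) * g⁻¹⁻¹ = q := by group
      rw [e2]
      exact hq
    · ext x
      constructor
      · intro hx
        refine ⟨g⁻¹ * x * g⁻¹⁻¹, ⟨x, hx, rfl⟩, ?_⟩
        change g * (g⁻¹ * x * g⁻¹⁻¹) * g⁻¹ = x
        group
      · rintro ⟨_, ⟨b, hb, rfl⟩, rfl⟩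
        change g * (g⁻¹ * b * g⁻¹⁻¹) * g⁻¹ ∈ B
        have e2 : g * (g⁻¹ * b * g⁻¹⁻¹) * g⁻¹ = b := by group
        rw [e2]
        exact hb
  refine ⟨Subgroup.map_mono h.le, fun B hB => ?_, fun B hB hAB => ?_⟩
  · obtain ⟨B', hB', rfl⟩ := key B hB
    rw [ff_map_conj, ff_map_conj]
    exact h.max B' hB'
  · obtain ⟨B', hB', rfl⟩ := key B hB
    rw [ff_map_conj, ff_map_conj] at hAB
    exact Subgroup.map_mono (h.min B' hB' hAB)

omit [Finite H] [Finite V] in
theorem le_normalizer (h : IsBest V Q A) : normalizer (Q : Set H) ≤ normalizer (A : Set H) := by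
  intro g hg
  have h1 := h.map_conj g
  rw [map_conj_eq_of_mem_normalizer hg] at h1
  exact mem_normalizer_of_map_conj_eq (h.unique h1).symm

end IsBest

/-! ### minimal parabolics -/

/-- the subgroup generated by the `P`-conjugates of the elements of `X` -/
def gn (P : Subgroup H) (X : Subgroup V) : Subgroup V := closure {w | ∃ x ∈ P, ∃ v ∈ X, w = x • v}

omit [Finite H] [Finite V] in
theorem le_gn (P : Subgroup H) (X : Subgroup V) : X ≤ gn P X := fun v hv =>
  subset_closure ⟨1, one_mem _, v, hv, (one_smul H v).symm⟩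

omit [Finite H] [Finite V] in
theorem smul_mem_gn {P : Subgroup H} {X : Subgroup V} {x : H} (hx : x ∈ P) {v : V} (hv : v ∈ gn P X) :
    x • v ∈ gn P X := by
  induction hv using closure_induction with
  | mem w hw =>
    obtain ⟨y, hy, u, hu, rfl⟩ := hw
    exact subset_closure ⟨x * y, mul_mem hx hy, u, hu, (mul_smul x y u).symm⟩
  | one => rw [smul_one]; exact one_mem _
  | mul a b _ _ ha hb => rw [smul_mul']; exact mul_mem ha hb
  | inv a _ ha => rw [smul_inv']; exact inv_mem ha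

/-- `P` has no over-offender on `U` -/
def NoOver (P : Subgroup H) (U : Subgroup V) : Prop := ∀ E : Subgroup H, E ≤ P →
  (∀ x ∈ E, x * x = 1) → Nat.card E ≤ Nat.card (E ⊓ fx U : Subgroup H) * (cv V (E : Set H)).relIndex U

/-- `P` is a minimal parabolic over its Sylow 2-subgroup `T` and moves `C_V(T)` -/
structure Mov (V : Type*) [Group V] [MulDistribMulAction H V] (T P : Subgroup H) : Prop where
  min : IsMinPar T P
  two : IsPGroup 2 T
  syl : ¬ 2 ∣ T.relIndex P
  mov : ¬ P ≤ fx (cv V (T : Set H))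

omit [Finite V] in
theorem Mov.o2_le {T P : Subgroup H} (h : Mov V T P) : o2 P ≤ T :=
  o2_le_of_sylow h.min.le h.two h.syl

omit [Finite H] [Finite V] in
theorem le_normalizer_of_conj {P K : Subgroup H} (h : ∀ p ∈ P, ∀ x ∈ K, p * x * p⁻¹ ∈ K) :
    P ≤ normalizer (K : Set H) := by
  intro p hp
  rw [mem_normalizer_iff]
  intro x
  refine ⟨fun hx => h p hp x hx, fun hx => ?_⟩
  have h1 := h p⁻¹ (inv_mem hp) _ hx
  have e : p⁻¹ * (p * x * p⁻¹) * p⁻¹⁻¹ = x := by group
  rwa [e] at h1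

omit [Finite V] in
theorem Mov.inf_fx_le {T P : Subgroup H} (h : Mov V T P) :
    T ⊓ (P ⊓ fx (gn P (cv V (T : Set H)))) ≤ o2 P := by
  have hn : P ≤ normalizer ((P ⊓ fx (gn P (cv V (T : Set H))) : Subgroup H) : Set H) := by
    refine le_normalizer_of_conj fun p hp x hx => mem_inf.mpr ⟨mul_mem (mul_mem hp hx.1) (inv_mem hp), ?_⟩
    intro u hu
    rw [mul_smul, mul_smul, hx.2 _ (smul_mem_gn (inv_mem hp) hu), smul_inv_smul]
  rcases h.min.sup_eq_or_inf_le h.two h.syl inf_le_left hn with h1 | h1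
  · refine absurd ?_ h.mov
    rw [← h1]
    refine sup_le (fun x hx u hu => hx.2 u (le_gn P _ hu)) fun t ht u hu => hu t ht
  · exact h1

omit [Finite V] in
theorem Mov.o2_le_fx {T P : Subgroup H} (h : Mov V T P) : o2 P ≤ fx (gn P (cv V (T : Set H))) := by
  intro y hy u hu
  induction hu using closure_induction with
  | mem w hw =>
    obtain ⟨x, hx, v, hv, rfl⟩ := hw
    have h1 : x⁻¹ * y * x ∈ o2 P := by
      have := (mem_normalizer_iff.mp (le_normalizer_o2 P (inv_mem hx)) y).mp hy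
      rwa [inv_inv] at this
    have h2 := hv _ (h.o2_le h1)
    calc y • x • v = x • (x⁻¹ * y * x) • v := by simp only [← mul_smul]; group
      _ = x • v := by rw [h2]
  | one => rw [smul_one]
  | mul a b _ _ ha hb => rw [smul_mul', ha, hb]
  | inv a _ ha => rw [smul_inv', ha]

omit [Finite V] in
/-- the count behind (3) -/
theorem card_le_of_noOver {A T P : Subgroup H} (hAT : A ≤ T) (hP : Mov V T P)
    (hA : ∀ x ∈ A, x * x = 1) (hno : NoOver P (gn P (cv V (T : Set H)))) :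
    Nat.card A ≤ Nat.card (A ⊓ o2 P : Subgroup H) *
      (cv V (A : Set H)).relIndex (gn P (cv V (T : Set H))) := by
  have hAP : A ≤ P := hAT.trans hP.min.le
  refine (hno A hAP hA).trans (Nat.mul_le_mul_right _ (card_le_of_le ?_))
  exact le_inf inf_le_left
    ((le_inf (inf_le_left.trans hAT) (le_inf (inf_le_left.trans hAP) inf_le_right)).trans hP.inf_fx_le)

/-- the count behind (3) -/
theorem ff_le_of_noOver {A T P : Subgroup H} (hAT : A ≤ T) (hP : Mov V T P)
    (hA : ∀ x ∈ A, x * x = 1) (hno : NoOver P (gn P (cv V (T : Set H)))) :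
    ff V A ≤ ff V (A ⊓ o2 P) := by
  have h1 := card_le_of_noOver hAT hP hA hno
  have h2 : gn P (cv V (T : Set H)) ≤ cv V ((A ⊓ o2 P : Subgroup H) : Set H) :=
    fun u hu a ha => hP.o2_le_fx ha.2 u hu
  have h3 : (cv V (A : Set H)).relIndex (gn P (cv V (T : Set H))) ≤
      (cv V (A : Set H)).relIndex (cv V ((A ⊓ o2 P : Subgroup H) : Set H)) :=
    relIndex_le_of_le_right h2 index_ne_zero_of_finite
  have h4 : Nat.card (cv V (A : Set H)) *
      (cv V (A : Set H)).relIndex (cv V ((A ⊓ o2 P : Subgroup H) : Set H)) =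
      Nat.card (cv V ((A ⊓ o2 P : Subgroup H) : Set H)) :=
    card_mul_relIndex (cv_anti (SetLike.coe_subset_coe.mpr inf_le_left))
  unfold ff
  calc Nat.card A * Nat.card (cv V (A : Set H))
      ≤ Nat.card (A ⊓ o2 P : Subgroup H) *
          (cv V (A : Set H)).relIndex (gn P (cv V (T : Set H))) * Nat.card (cv V (A : Set H)) := by
        gcongr
    _ ≤ Nat.card (A ⊓ o2 P : Subgroup H) *
          (cv V (A : Set H)).relIndex (cv V ((A ⊓ o2 P : Subgroup H) : Set H)) *
            Nat.card (cv V (A : Set H)) := by gcongr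
    _ = _ := by rw [← h4]; ring

/-- (3) -/
theorem IsBest.le_o2 {Q A T P : Subgroup H} (h : IsBest V Q A) (hQ : ∀ x ∈ Q, x * x = 1)
    (hAT : A ≤ T) (hP : Mov V T P) (hno : NoOver P (gn P (cv V (T : Set H)))) : A ≤ o2 P := by
  by_contra hcon
  have h1 := h.lt (inf_lt_left.mpr hcon)
  have h2 := ff_le_of_noOver hAT hP (fun x hx => hQ x (h.le hx)) hno
  omega

/-! ### (3') all Sylow groups at once -/

omit [Finite H] [Finite V] in
theorem Mov.map_conj {T P : Subgroup H} (h : Mov V T P) (g : H) :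
    Mov V (T.map (MulAut.conj g).toMonoidHom) (P.map (MulAut.conj g).toMonoidHom) := by
  refine ⟨MinPar.IsMinPar.map (MulAut.conj g) h.min, h.two.map _, ?_, fun h1 => h.mov ?_⟩
  · rw [relIndex_map_map_of_injective _ _ (MulAut.conj g).injective]
    exact h.syl
  · intro x hx v hv
    have h2 := h1 ⟨x, hx, rfl⟩ (g • v) ((cv_map_conj g T).mpr hv)
    change (g * x * g⁻¹) • g • v = g • v at h2
    rw [← mul_smul, inv_mul_cancel_right, mul_smul] at h2
    exact smul_left_cancel g h2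

/-- the subgroup generated by the minimal parabolics over `T` moving `C_V(T)` -/
def xx (V : Type*) [Group V] [MulDistribMulAction H V] (T : Subgroup H) : Subgroup H :=
  closure {x | ∃ P, Mov V T P ∧ x ∈ P}

omit [Finite H] [Finite V] in
theorem map_conj_mul (K : Subgroup H) (x y : H) :
    (K.map (MulAut.conj y).toMonoidHom).map (MulAut.conj x).toMonoidHom =
      K.map (MulAut.conj (x * y)).toMonoidHom := by
  rw [Subgroup.map_map]
  congr 1
  ext z
  simp [mul_assoc]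

/-- one step of (3') -/
theorem IsBest.le_map_mul {Q A T P : Subgroup H} (h : IsBest V Q A) (hQ : ∀ x ∈ Q, x * x = 1)
    (hno : ∀ T P : Subgroup H, Mov V T P → NoOver P (gn P (cv V (T : Set H)))) (hP : Mov V T P)
    {y p : H} (hp : p ∈ P) (hAT : A ≤ T.map (MulAut.conj y).toMonoidHom) :
    A ≤ T.map (MulAut.conj (y * p)).toMonoidHom := by
  have h1 := h.le_o2 hQ hAT (hP.map_conj y) (hno _ _ (hP.map_conj y))
  rw [o2_map _ (MulAut.conj y).injective] at h1
  refine h1.trans ?_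
  rw [← map_conj_mul]
  refine Subgroup.map_mono ?_
  rw [← map_conj_eq_of_mem_normalizer (le_normalizer_o2 P hp)]
  exact Subgroup.map_mono hP.o2_le

/-- (3') for `X_T` -/
theorem IsBest.le_map_of_mem_xx {Q A T : Subgroup H} (h : IsBest V Q A) (hQ : ∀ x ∈ Q, x * x = 1)
    (hno : ∀ T P : Subgroup H, Mov V T P → NoOver P (gn P (cv V (T : Set H))))
    {y z : H} (hz : z ∈ xx V T) (hAT : A ≤ T.map (MulAut.conj y).toMonoidHom) :
    A ≤ T.map (MulAut.conj (y * z)).toMonoidHom := by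
  induction hz using closure_induction_right with
  | one => rwa [mul_one]
  | mul_right x _ p hp ih =>
    obtain ⟨P, hP, hpP⟩ := hp
    rw [← mul_assoc]
    exact h.le_map_mul hQ hno hP hpP ih
  | mul_inv_cancel x _ p hp ih =>
    obtain ⟨P, hP, hpP⟩ := hp
    rw [← mul_assoc]
    exact h.le_map_mul hQ hno hP (inv_mem hpP) ih

/-- (3') for `⟨X_T, N_H(T)⟩` -/
theorem IsBest.le_map_of_mem_sup {Q A T : Subgroup H} (h : IsBest V Q A) (hQ : ∀ x ∈ Q, x * x = 1)
    (hno : ∀ T P : Subgroup H, Mov V T P → NoOver P (gn P (cv V (T : Set H))))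
    {z : H} (hz : z ∈ xx V T ⊔ normalizer (T : Set H)) (hAT : A ≤ T) :
    A ≤ T.map (MulAut.conj z).toMonoidHom := by
  rw [Subgroup.sup_eq_closure] at hz
  have key : ∀ x y : H, y ∈ ((xx V T : Subgroup H) : Set H) ∪ (normalizer (T : Set H) : Set H) →
      A ≤ T.map (MulAut.conj x).toMonoidHom → A ≤ T.map (MulAut.conj (x * y)).toMonoidHom := by
    rintro x y (hy | hy) ih
    · exact h.le_map_of_mem_xx hQ hno hy ih
    · rw [← map_conj_mul, map_conj_eq_of_mem_normalizer hy]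
      exact ih
  induction hz using closure_induction_right with
  | one =>
    rw [map_conj_eq_of_mem_normalizer (one_mem _)]
    exact hAT
  | mul_right x _ y hy ih => exact key x y hy ih
  | mul_inv_cancel x _ y hy ih =>
    refine key x y⁻¹ ?_ ih
    rcases hy with hy | hy
    · exact Or.inl (inv_mem hy)
    · exact Or.inr (inv_mem hy)

/-- **No over-offenders** (#12842, sharpened by #13080): if `H` is generated by `N_H(T)` and the minimal
parabolics over the Sylow 2-subgroup `T` which move `C_V(T)`, if `⟨C_V(T)^H⟩` is faithful and if minimal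
parabolics have no over-offender on `⟨C_V(T)^P⟩`, then `H` has no over-offender on `V`. -/
theorem no_over {T : Subgroup H} (hT : IsPGroup 2 T) (hTi : ¬ 2 ∣ T.index)
    (hgen : xx V T ⊔ normalizer (T : Set H) = ⊤)
    (hfaith : fx (gn (⊤ : Subgroup H) (cv V (T : Set H))) = (⊥ : Subgroup H))
    (hV : ∀ v w : V, v * w = w * v)
    (hno : ∀ T P : Subgroup H, Mov V T P → NoOver P (gn P (cv V (T : Set H))))
    {E : Subgroup H} (hE : ∀ x ∈ E, x * x = 1) : ff V E ≤ Nat.card V := by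
  by_contra hcon
  push Not at hcon
  -- a conjugate of `E` lies in `T`
  have hE2 : IsPGroup 2 E := fun x => ⟨1, Subtype.ext (by
    have := hE x x.2
    rw [pow_one, pow_two]
    exact this)⟩
  obtain ⟨S, hS⟩ := hE2.exists_le_sylow
  let T' : Sylow 2 H := hT.toSylow hTi
  obtain ⟨g, hg⟩ := MulAction.exists_smul_eq H S T'
  have hgT : E.map (MulAut.conj g).toMonoidHom ≤ T := by
    have h1 : (S : Subgroup H).map (MulAut.conj g).toMonoidHom = T := by
      have h2 := congrArg (fun K : Sylow 2 H => (K : Subgroup H)) hg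
      exact h2
    rw [← h1]
    exact Subgroup.map_mono hS
  have hE' : ∀ x ∈ E.map (MulAut.conj g).toMonoidHom, x * x = 1 := by
    rintro _ ⟨x, hx, rfl⟩
    rw [← map_mul, hE x hx, map_one]
  have hc' : Nat.card V < ff V (E.map (MulAut.conj g).toMonoidHom) := by rwa [ff_map_conj]
  generalize E.map (MulAut.conj g).toMonoidHom = Q at hgT hE' hc'
  have hQc : ∀ a ∈ Q, ∀ b ∈ Q, a * b = b * a := by
    intro a ha b hb
    have h1 := hE' _ (mul_mem ha hb)
    have h2 := hE' a ha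
    have h3 := hE' b hb
    calc a * b = a * ((a * b) * (a * b)) * b := by rw [h1, mul_one]
      _ = (a * a) * (b * a) * (b * b) := by simp only [mul_assoc]
      _ = b * a := by rw [h2, h3, one_mul, mul_one]
  obtain ⟨A, hA⟩ := exists_isBest (V := V) hV hQc
  refine hA.ne_bot le_rfl hc' (le_bot_iff.mp ?_)
  rw [← hfaith]
  intro a ha
  rw [mem_fx]
  intro u hu
  induction hu using closure_induction with
  | mem w hw =>
    obtain ⟨x, -, v, hv, rfl⟩ := hw
    have h1 := hA.le_map_of_mem_sup (T := T) (z := x) hE' hno (by rw [hgen]; trivial)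
      (hA.le.trans hgT)
    obtain ⟨t, ht, e⟩ := h1 ha
    have e' : x * t * x⁻¹ = a := e
    have e2 : a • x • v = x • t • v := by rw [← e', ← mul_smul, inv_mul_cancel_right, mul_smul]
    rw [e2, hv t ht]
  | one => rw [smul_one]
  | mul a b _ _ ha hb => rw [smul_mul', ha, hb]
  | inv a _ ha => rw [smul_inv', ha]

/-! ### exact offenders -/

/-- A minimal exact offender `A ≤ T` lies in `O₂(P)`, or meets `O₂(P)` trivially and then
`V = ⟨C_V(T)^P⟩ C_V(A)`. -/
theorem exact_alt {A T P : Subgroup H} (hAT : A ≤ T) (hP : Mov V T P) (hA : ∀ x ∈ A, x * x = 1)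
    (hno : NoOver P (gn P (cv V (T : Set H)))) (hV : ∀ v w : V, v * w = w * v)
    (hex : ff V A = Nat.card V) (hmin : ∀ B < A, B ≠ ⊥ → ff V B < ff V A) :
    A ≤ o2 P ∨ A ⊓ o2 P = ⊥ ∧ gn P (cv V (T : Set H)) ⊔ cv V (A : Set H) = ⊤ := by
  by_cases h1 : A ≤ o2 P
  · exact Or.inl h1
  right
  have h2 : A ⊓ o2 P = ⊥ := by
    by_contra h3
    have h4 := hmin _ (inf_lt_left.mpr h1) h3
    have h5 := ff_le_of_noOver hAT hP hA hno
    omega
  refine ⟨h2, ?_⟩
  have h3 := card_le_of_noOver hAT hP hA hno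
  rw [h2, card_bot, one_mul] at h3
  have h4 := card_sup_mul_of_comm (K := gn P (cv V (T : Set H))) (L := cv V (A : Set H))
    (fun a _ b _ => hV a b)
  have h5 : Nat.card (gn P (cv V (T : Set H)) ⊓ cv V (A : Set H) : Subgroup V) *
      (cv V (A : Set H)).relIndex (gn P (cv V (T : Set H))) =
      Nat.card (gn P (cv V (T : Set H))) := by
    rw [inf_comm, ← Subgroup.inf_relIndex_right]
    exact card_mul_relIndex inf_le_right
  rw [← h5] at h4
  have h6 : 0 < Nat.card (gn P (cv V (T : Set H)) ⊓ cv V (A : Set H) : Subgroup V) := Nat.card_pos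
  have h7 : Nat.card (gn P (cv V (T : Set H)) ⊔ cv V (A : Set H) : Subgroup V) =
      (cv V (A : Set H)).relIndex (gn P (cv V (T : Set H))) * Nat.card (cv V (A : Set H)) := by
    apply Nat.eq_of_mul_eq_mul_right h6
    rw [h4]
    ring
  apply Subgroup.eq_top_of_card_eq
  apply le_antisymm (Subgroup.card_le_card_group _)
  rw [h7, ← hex, ff]
  exact Nat.mul_le_mul_right _ h3

end Cfsg.Agent.Omega.NO3S.ML

end

section


/-!
# EThree: the maximal elementary abelian subgroups of `Q_x` are exact on the neighbours (helper495 #18378 (1), (2))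

* `swp`: `N ≤ Q` elementary abelian, `A ∈ AA Q`, `|A : C_A(N)| ≤ |N : C_N(A)|`: equality, `C_N(A) ≤ A` and
  `C_A(N) N ∈ AA Q`;
* `NoP Z`: `(NO)` for the action of `Q_a` on `N_u`, `a ~ u`;
* `exact`: `A ∈ AA Q_a` is exact on `N_u`, `u ~ a`, and `C_A(N_u) N_u ∈ AA Q_a ∩ AA Q_u`, `r(Q_a ∩ Q_u) = r(Q_a)`;
* `moves`: if `Q_a` has a nontrivial Thompson subgroup, some `A ∈ AA Q_a` moves `N_u` (`principle`: PRINCIPLE (*)
  for every functor);
* `phi_iff`: `A ∈ AA Q_u`, `x ~ u`: `A ≤ Q_x ↔ N_x ≤ A ↔ [A, N_x] = 1`;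
* `two`: `a ~ x ~ b`: there is `E ≤ Q_x` centralising `N_a` and `N_b` with
  `N_a E`, `N_b E ∈ AA Q_x`;
* `crit_exact`: a noncommuting pair at least distance is exact on both sides.
-/

set_option autoImplicit false
set_option linter.unusedSectionVars false

namespace Cfsg.Agent.Omega.NO3S.EThree.ExactA

open Subgroup Cfsg Cfsg.Agent.ZN Cfsg.Agent.Omega.MinPar
open Cfsg.Agent.Omega.OM.PG
open Cfsg.Agent.ZN.ChoiceBase (AA mm mm_eq mem_AA_iff AA_nonempty card_le_mm cj_mem_AA mm_cj mm_mono)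
open Cfsg.Agent.Omega.NoFF.Basic (conj_conj mem_conj conj_le_iff conj_le_centralizer comm_symm comm_mono)
open Cfsg.Agent.Omega.NO3S.ML (card_mul_relIndex card_sup_mul_of_comm)
open scoped Pointwise

universe u

variable {G : Type u} [Group G]

theorem eab_iff {A : Subgroup G} : IsElementaryAbelian 2 A ↔ A ≤ centralizer (A : Set G) ∧ ∀ x ∈ A, x ^ 2 = 1 := by
  constructor
  · rintro ⟨h1, h2⟩
    refine ⟨fun x hx => mem_centralizer_iff.2 fun y hy => ?_, h2⟩
    exact congrArg Subtype.val (h1.is_comm.comm (⟨y, hy⟩ : A) ⟨x, hx⟩)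
  · rintro ⟨h1, h2⟩
    exact ⟨⟨⟨fun x y => Subtype.ext (mem_centralizer_iff.1 (h1 y.2) x x.2)⟩⟩, h2⟩

theorem eab_sup {A B : Subgroup G} (hA : IsElementaryAbelian 2 A) (hB : IsElementaryAbelian 2 B)
    (h : A ≤ centralizer (B : Set G)) : IsElementaryAbelian 2 (A ⊔ B : Subgroup G) := by
  rw [eab_iff] at *
  have hc : A ⊔ B ≤ centralizer ((A ⊔ B : Subgroup G) : Set G) := by
    have hB' : B ≤ centralizer (A : Set G) := comm_symm h
    have h1 : A ≤ centralizer ((A ⊔ B : Subgroup G) : Set G) := comm_symm (sup_le hA.1 hB')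
    have h2 : B ≤ centralizer ((A ⊔ B : Subgroup G) : Set G) := comm_symm (sup_le h hB.1)
    exact sup_le h1 h2
  refine ⟨hc, ?_⟩
  refine NoFF.Lines.Geo.sq_of_comm hc (ι := Bool) (B := fun i => cond i A B) ?_ ?_ ?_
  · rintro (_ | _)
    · exact le_sup_right
    · exact le_sup_left
  · exact sup_le (le_iSup (fun i : Bool => (cond i A B : Subgroup G)) true)
      (le_iSup (fun i : Bool => (cond i A B : Subgroup G)) false)
  · rintro (_ | _)
    · exact hB.2
    · exact hA.2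

theorem eab_mono {A B : Subgroup G} (hB : IsElementaryAbelian 2 B) (h : A ≤ B) : IsElementaryAbelian 2 A := by
  rw [eab_iff] at *
  exact ⟨(h.trans hB.1).trans (centralizer_le h), fun x hx => hB.2 x (h hx)⟩

variable [Finite G]

/-- The exchange. -/
theorem swp {Q N A : Subgroup G} (hN : IsElementaryAbelian 2 N) (hNQ : N ≤ Q) (hA : A ∈ AA Q)
    (h : (centralizer (N : Set G)).relIndex A ≤ (centralizer (A : Set G)).relIndex N) :
    (centralizer (N : Set G)).relIndex A = (centralizer (A : Set G)).relIndex N ∧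
      N ⊓ centralizer (A : Set G) ≤ A ∧ (A ⊓ centralizer (N : Set G)) ⊔ N ∈ AA Q := by
  have hAe := hA.1
  have hN' := (eab_iff.1 hN).1
  have hA' := (eab_iff.1 hAe).1
  set K := A ⊓ centralizer (N : Set G) with hK
  set D := N ⊓ centralizer (A : Set G) with hD
  have hKe : IsElementaryAbelian 2 K := eab_mono hAe inf_le_left
  have hE : IsElementaryAbelian 2 (K ⊔ N : Subgroup G) := eab_sup hKe hN inf_le_right
  have hEQ : K ⊔ N ≤ Q := sup_le (inf_le_left.trans hA.2.1) hNQ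
  have hEA : Nat.card (K ⊔ N : Subgroup G) ≤ Nat.card A := hA.2.2 _ hE hEQ
  have h1 : Nat.card (K ⊔ N : Subgroup G) * Nat.card (K ⊓ N : Subgroup G) = Nat.card K * Nat.card N :=
    card_sup_mul_of_comm fun a ha b hb => (mem_centralizer_iff.1 ((inf_le_right : K ≤ _) ha) b hb).symm
  have hKN : K ⊓ N = A ⊓ N := by
    rw [hK]
    refine le_antisymm (inf_le_inf_right _ inf_le_left) (le_inf (le_inf inf_le_left ?_) inf_le_right)
    exact inf_le_right.trans hN'
  have hAN : A ⊓ N ≤ D := le_inf inf_le_right (inf_le_left.trans hA')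
  have h2 : Nat.card (A ⊓ N : Subgroup G) ≤ Nat.card D := Subgroup.card_le_of_le hAN
  have h3 : Nat.card K * (centralizer (N : Set G)).relIndex A = Nat.card A := by
    rw [hK, ← Subgroup.inf_relIndex_left]
    exact card_mul_relIndex inf_le_left
  have h4 : Nat.card D * (centralizer (A : Set G)).relIndex N = Nat.card N := by
    rw [hD, ← Subgroup.inf_relIndex_left]
    exact card_mul_relIndex inf_le_left
  have pK : 0 < Nat.card K := Nat.card_pos
  have pD : 0 < Nat.card D := Nat.card_pos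
  have pA : 0 < Nat.card A := Nat.card_pos
  have pAN : 0 < Nat.card (A ⊓ N : Subgroup G) := Nat.card_pos
  rw [hKN] at h1
  have h5 : Nat.card K * Nat.card D * (centralizer (A : Set G)).relIndex N ≤
      Nat.card K * Nat.card D * (centralizer (N : Set G)).relIndex A := by
    calc _ = Nat.card K * Nat.card N := by rw [← h4]; ring
      _ = Nat.card (K ⊔ N : Subgroup G) * Nat.card (A ⊓ N : Subgroup G) := h1.symm
      _ ≤ Nat.card A * Nat.card D := Nat.mul_le_mul hEA h2
      _ = _ := by rw [← h3]; ring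
  have h6 : (centralizer (A : Set G)).relIndex N ≤ (centralizer (N : Set G)).relIndex A :=
    Nat.le_of_mul_le_mul_left h5 (Nat.mul_pos pK pD)
  have h7 := le_antisymm h h6
  have h8 : Nat.card (K ⊔ N : Subgroup G) * Nat.card (A ⊓ N : Subgroup G) = Nat.card A * Nat.card D := by
    rw [h1, ← h4, ← h3, h7]; ring
  have h9 : Nat.card A ≤ Nat.card (K ⊔ N : Subgroup G) := by
    refine Nat.le_of_mul_le_mul_right (c := Nat.card D) ?_ pD
    rw [← h8]
    exact Nat.mul_le_mul_left _ h2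
  have h10 : Nat.card D ≤ Nat.card (A ⊓ N : Subgroup G) := by
    have h12 : Nat.card A * Nat.card D ≤ Nat.card A * Nat.card (A ⊓ N : Subgroup G) := by
      rw [← h8]
      exact Nat.mul_le_mul_right _ hEA
    exact Nat.le_of_mul_le_mul_left h12 pA
  have h11 : A ⊓ N = D := Subgroup.eq_of_le_of_card_ge hAN h10
  refine ⟨h7, ?_, ⟨hE, hEQ, fun B hB hBQ => (hA.2.2 B hB hBQ).trans h9⟩⟩
  rw [← h11]
  exact inf_le_left

/-- `(NO)` for `Q_a` on `N_u`, `a ~ u`. -/
def NoP (Z : Fin 2 → Subgroup G) : Prop :=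
  ∀ a u : Subgroup G, Adj Z a u → ∀ B : Subgroup G, IsElementaryAbelian 2 B → B ≤ QQ a →
    (centralizer (NN Z u : Set G)).relIndex B ≤ (centralizer (B : Set G)).relIndex (NN Z u)

section PPs

variable {Z U : Fin 2 → Subgroup G} (P : PP Z U)

include P

omit [Finite G] in
theorem NN_eab {a : Subgroup G} (h : IsPt Z a) : IsElementaryAbelian 2 (NN Z a) := by
  rw [eab_iff]
  refine ⟨P.NN_comm h, ?_⟩
  refine NoFF.Lines.Geo.sq_of_comm (P.NN_comm h) (ι := {u : Subgroup G // Adj Z a u}) (B := fun u => (u : Subgroup G))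
    (fun u => u.2.le_NN) ?_ fun u => P.ZsqConj (P.adj_pt u.2)
  exact sSup_le fun u hu => le_iSup (fun u : {u : Subgroup G // Adj Z a u} => (u : Subgroup G)) ⟨u, hu⟩

/-- `N_a ≤ A` for `A ∈ AA Q_a`. -/
theorem NN_le {a A : Subgroup G} (h : IsPt Z a) (hA : A ∈ AA (QQ a)) : NN Z a ≤ A := by
  have h1 : IsElementaryAbelian 2 (A ⊔ NN Z a : Subgroup G) :=
    eab_sup hA.1 (NN_eab P h) (hA.2.1.trans (P.QQ_le_cent h))
  have h2 := hA.2.2 _ h1 (sup_le hA.2.1 (P.NN_le_QQ h))
  have h3 : A = A ⊔ NN Z a := Subgroup.eq_of_le_of_card_ge le_sup_left h2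
  rw [h3]
  exact le_sup_right

theorem mm_QQ {a b : Subgroup G} (ha : IsPt Z a) (hb : IsPt Z b) : mm (QQ a) = mm (QQ b) := by
  obtain ⟨k, rfl⟩ := ha
  obtain ⟨l, rfl⟩ := hb
  rw [QQ_conj, QQ_conj]
  exact (mm_cj k _).trans (mm_cj l _).symm

/-- An `A ∈ AA Q_a` inside `Q_b` lies in `AA Q_b`. -/
theorem mem_AA_of_le {a b A : Subgroup G} (ha : IsPt Z a) (hb : IsPt Z b) (hA : A ∈ AA (QQ a)) (h : A ≤ QQ b) :
    A ∈ AA (QQ b) := by
  rw [mem_AA_iff]
  exact ⟨hA.1, h, by rw [mm_QQ P hb ha]; exact (mm_eq hA).le⟩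

/-- **(2)** -/
theorem exact (hC : ∀ a u : Subgroup G, Adj Z a u → Com Z a u) (hNO : NoP Z) {a u A : Subgroup G} (h : Adj Z a u)
    (hA : A ∈ AA (QQ a)) :
    (centralizer (NN Z u : Set G)).relIndex A = (centralizer (A : Set G)).relIndex (NN Z u) ∧
      NN Z u ⊓ centralizer (A : Set G) ≤ A ∧
      (A ⊓ centralizer (NN Z u : Set G)) ⊔ NN Z u ∈ AA (QQ a) ∧
      (A ⊓ centralizer (NN Z u : Set G)) ⊔ NN Z u ∈ AA (QQ u) := by
  have hu := P.adj_pt h
  have h1 : NN Z u ≤ QQ a := P.f3 h (P.NN_le_QQ hu) (comm_symm (hC a u h))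
  obtain ⟨h2, h3, h4⟩ := swp (NN_eab P hu) h1 hA (hNO a u h A hA.1 hA.2.1)
  refine ⟨h2, h3, h4, mem_AA_of_le P h.pt hu h4 ?_⟩
  refine P.f3 (P.adj_symm h) h4.2.1 (sup_le inf_le_right (P.NN_comm hu))

/-- `r(Q_a ∩ Q_u) = r(Q_a)` -/
theorem mm_inf (hC : ∀ a u : Subgroup G, Adj Z a u → Com Z a u) (hNO : NoP Z) {a u : Subgroup G} (h : Adj Z a u) :
    mm (QQ a ⊓ QQ u) = mm (QQ a) := by
  obtain ⟨A, hA⟩ := AA_nonempty (QQ a)
  obtain ⟨-, -, h1, h2⟩ := exact P hC hNO h hA
  refine le_antisymm (mm_mono inf_le_left) ?_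
  rw [mm_eq h1]
  exact card_le_mm h1.1 (le_inf h1.2.1 h2.2.1)

/-- `A ∈ AA Q_u`, `x ~ u`. -/
theorem phi_iff {u x A : Subgroup G} (h : Adj Z x u) (hA : A ∈ AA (QQ u)) :
    (A ≤ QQ x ↔ NN Z x ≤ A) ∧ (NN Z x ≤ A ↔ A ≤ centralizer (NN Z x : Set G)) := by
  have hA' := (eab_iff.1 hA.1).1
  have h1 : A ≤ QQ x → NN Z x ≤ A := fun h1 => NN_le P h.pt (mem_AA_of_le P (P.adj_pt h) h.pt hA h1)
  have h2 : NN Z x ≤ A → A ≤ centralizer (NN Z x : Set G) := fun h2 => hA'.trans (centralizer_le h2)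
  have h3 : A ≤ centralizer (NN Z x : Set G) → A ≤ QQ x := fun h3 => P.f3 h hA.2.1 h3
  exact ⟨⟨h1, fun h4 => h3 (h2 h4)⟩, ⟨h2, fun h4 => h1 (h3 h4)⟩⟩

/-- **PRINCIPLE (*)**: a subgroup `Φ(Q_a) ≠ 1` given by a conjugation invariant rule moves `N_u` for `u ~ a`. -/
theorem principle {Φ : Subgroup G → Subgroup G} (hΦ : ∀ (g : G) (a : Subgroup G), IsPt Z a →
      Φ (MulAut.conj g • a) = MulAut.conj g • Φ a)
    (hle : ∀ a : Subgroup G, IsPt Z a → Φ a ≤ QQ a)
    (hmono : ∀ a u : Subgroup G, Adj Z a u → Φ a ≤ QQ u → Φ a ≤ Φ u)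
    (hne : Φ (Z 0) ≠ ⊥) {a u : Subgroup G} (h : Adj Z a u) : ¬ Φ a ≤ centralizer (NN Z u : Set G) := by
  have h0 : IsPt Z (Z 0) := ⟨1, by rw [map_one, one_smul]⟩
  have h01 : Adj Z (Z 0) (Z 1) := ⟨1, by rw [map_one, one_smul], by rw [map_one, one_smul]⟩
  have h1 : IsPt Z (Z 1) := P.adj_pt h01
  intro hcon
  -- move to `Z 0`, `Z 1`
  obtain ⟨k, rfl, rfl⟩ := h
  rw [hΦ k _ h0, NN_conj] at hcon
  have hcon' : Φ (Z 0) ≤ centralizer (NN Z (Z 1) : Set G) := by
    have h2 := conj_le_centralizer (g := k⁻¹) hcon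
    rwa [inv_conj_conj, inv_conj_conj] at h2
  have h3 : Φ (Z 0) ≤ QQ (Z 1) := P.f3 (P.adj_symm h01) (hle _ h0) hcon'
  have h4 : Φ (Z 0) ≤ Φ (Z 1) := hmono _ _ h01 h3
  obtain ⟨s, hs0, hs1, -, -⟩ := P.swap
  have h5 : Φ (Z 1) = MulAut.conj s • Φ (Z 0) := by rw [← hs0, hΦ s _ h0]
  have h6 : Nat.card (Φ (Z 1)) = Nat.card (Φ (Z 0)) := by
    rw [h5]
    exact (ZN.ChoiceBase.card_cj s _)
  have h7 : Φ (Z 0) = Φ (Z 1) := Subgroup.eq_of_le_of_card_ge h4 h6.le
  have key : ∀ a : Subgroup G, IsPt Z a → HH a ≤ normalizer (Φ a : Set G) := by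
    intro a ha g hg
    have h8 : MulAut.conj g • a = a := Cfsg.Agent.Omega.NOThreeL.Pair.conj_eq_of_mem hg
    refine ChoiceBase.mem_normalizer_iff_cj.2 ?_
    change MulAut.conj g • Φ a = Φ a
    rw [← hΦ g a ha, h8]
  refine hne (P.nonLoc (Φ (Z 0)) ?_ (key _ h0) ?_)
  · exact (MinSimple.VModule.o2_isPGroup _).to_le (hle _ h0)
  · rw [h7]
    exact key _ h1

/-- Some `A ∈ AA Q_a` moves `N_u`. -/
theorem moves (hne : jj (QQ (Z 0)) ≠ ⊥) {a u : Subgroup G} (h : Adj Z a u) :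
    ∃ A ∈ AA (QQ a), ¬ A ≤ centralizer (NN Z u : Set G) := by
  have h1 := principle P (Φ := fun a => jj (QQ a)) (fun g a _ => by
      rw [QQ_conj]
      exact ChoiceBase.jj_cj g (QQ a)) (fun a _ => ChoiceBase.jj_le _) ?_ hne h
  · by_contra hcon
    push Not at hcon
    apply h1
    rw [ChoiceBase.jj_eq]
    exact sSup_le fun A hA => hcon A hA
  · intro a u h' hle
    rw [ChoiceBase.jj_eq, ChoiceBase.jj_eq]
    refine sSup_le fun A hA => le_sSup ?_
    exact mem_AA_of_le P h'.pt (P.adj_pt h') hA ((ChoiceBase.le_jj hA).trans hle)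

/-- `a ~ x ~ b`, `N_a` and `N_b` exact on each other. -/
theorem two (hC : ∀ a u : Subgroup G, Adj Z a u → Com Z a u) (hNO : NoP Z) {a x b : Subgroup G} (h : Adj Z x a)
    (h' : Adj Z x b) :
    ∃ E : Subgroup G, E ≤ QQ x ∧ E ≤ centralizer (NN Z a : Set G) ∧ E ≤ centralizer (NN Z b : Set G) ∧
      E ⊔ NN Z a ∈ AA (QQ x) ∧ E ⊔ NN Z b ∈ AA (QQ x) := by
  obtain ⟨A₀, hA₀⟩ := AA_nonempty (QQ x)
  have ha := P.adj_pt h
  have hb := P.adj_pt h'
  -- `A ∈ AA Q_x` containing `N_a`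
  obtain ⟨-, -, h1, -⟩ := exact P hC hNO h hA₀
  set A := (A₀ ⊓ centralizer (NN Z a : Set G)) ⊔ NN Z a with hA
  have hAa : NN Z a ≤ A := le_sup_right
  have hAab := (eab_iff.1 h1.1).1
  obtain ⟨-, -, h2, -⟩ := exact P hC hNO h' h1
  set A' := (A ⊓ centralizer (NN Z b : Set G)) ⊔ NN Z b with hA'
  have hA'ab := (eab_iff.1 h2.1).1
  obtain ⟨-, -, h3, -⟩ := exact P hC hNO h h2
  set A'' := (A' ⊓ centralizer (NN Z a : Set G)) ⊔ NN Z a with hA''
  have hA''ab := (eab_iff.1 h3.1).1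
  obtain ⟨-, -, h4, -⟩ := exact P hC hNO h' h3
  have hA''a : NN Z a ≤ A'' := le_sup_right
  refine ⟨A'' ⊓ centralizer (NN Z b : Set G), inf_le_left.trans h3.2.1,
    inf_le_left.trans (hA''ab.trans (centralizer_le hA''a)), inf_le_right, ?_, h4⟩
  have h5 : A'' ⊓ centralizer (NN Z b : Set G) ⊔ NN Z a = A'' := by
    refine le_antisymm (sup_le inf_le_left le_sup_right) (sup_le ?_ le_sup_right)
    refine le_trans (le_inf le_sup_left ?_) le_sup_left
    have h6 : NN Z b ≤ A' := le_sup_right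
    exact inf_le_left.trans (hA'ab.trans (centralizer_le h6))
  rw [h5]
  exact h3

/-- A noncommuting pair at least distance is exact on both sides. -/
theorem crit_exact (hNO : NoP Z) {d : ℕ} {a b : Subgroup G} (hab : Pth Z (d + 1) a b)
    (hmin : ∀ m ≤ d, ∀ a b, Pth Z m a b → Com Z a b) :
    (centralizer (NN Z b : Set G)).relIndex (NN Z a) = (centralizer (NN Z a : Set G)).relIndex (NN Z b) := by
  have key : ∀ a b : Subgroup G, Pth Z (d + 1) a b →
      (centralizer (NN Z b : Set G)).relIndex (NN Z a) ≤ (centralizer (NN Z a : Set G)).relIndex (NN Z b) := by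
    intro a b h
    cases h with
    | succ h1 h2 =>
      have h3 := P.lemP hmin d le_rfl _ _ h1
      exact hNO _ _ h2 _ (NN_eab P (PP.pth_pt h1)) h3
  exact le_antisymm (key a b hab) (key b a (P.pth_symm hab))

end PPs

end Cfsg.Agent.Omega.NO3S.EThree.ExactA

end

section


/-!
# THEOREM INT (helper15, #20259): the core

`N` elementary abelian, `Z₂ ≤ N`; `(NO)` for the elementary abelian subgroups `B ≤ O` acting on `N`, and the lifting
property of the exact ones; an exact `A` swaps `x`, `y ∈ N` and `i ∈ N` satisfies `[i, R] ≤ ⟨x⟩ Z₂` for an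
`A`-invariant `R ≥ C_A(x)` which centralises `x`, `y`.  Then `[i, R] ≤ Z₂`.
-/

set_option autoImplicit false

namespace Cfsg.Agent.Omega.OM.PG.Int

open Subgroup Cfsg Cfsg.Agent.ZN
open Cfsg.Agent.Omega.NO3S.EThree.ExactA (eab_iff eab_mono)

universe u

variable {G : Type u} [Group G]

theorem rix_ne [Finite G] (H K : Subgroup G) : H.relIndex K ≠ 0 := by
  change (H.subgroupOf K).index ≠ 0
  exact index_ne_zero_of_finite

theorem index_two_mul {H K : Subgroup G} (_hHK : H ≤ K) (h : H.relIndex K ≤ 2) [Finite G] {a b : G} (ha : a ∈ K)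
    (hb : b ∈ K) (haH : a ∉ H) (hbH : b ∉ H) : a * b ∈ H := by
  have h1 : H.relIndex K ≠ 1 := fun h1 => haH ((relIndex_eq_one.1 h1) ha)
  have h0 : H.relIndex K ≠ 0 := rix_ne H K
  have h2 : (H.subgroupOf K).index = 2 := by
    change H.relIndex K = 2
    omega
  have h3 := (mul_mem_iff_of_index_two h2 (a := (⟨a, ha⟩ : K)) (b := ⟨b, hb⟩)).2
    (by simp only [mem_subgroupOf]; exact ⟨fun h => absurd h haH, fun h => absurd h hbH⟩)
  simpa [mem_subgroupOf] using h3

/-- the pairs `(B, N)` with `|B : C_B(N)| = |N : C_N(B)|` -/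
def Ex (B N : Subgroup G) : Prop :=
  (centralizer (N : Set G)).relIndex B = (centralizer (B : Set G)).relIndex N

section

variable [Finite G] {N O Z₂ : Subgroup G}

/-- Halving: `A₁ ≤ A` of index `2`, `C_A(N) ≤ A₁`, `A₁` has more fixed points than `A`. -/
theorem half {A A₁ : Subgroup G} (hAA : A₁ ≤ A) (h2 : A₁.relIndex A = 2)
    (hC : A ⊓ centralizer (N : Set G) ≤ A₁) (hA : Ex A N)
    (hno : (centralizer (N : Set G)).relIndex A₁ ≤ (centralizer (A₁ : Set G)).relIndex N)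
    {n : G} (hn : n ∈ N) (hn1 : n ∈ centralizer (A₁ : Set G)) (hn2 : n ∉ centralizer (A : Set G)) :
    Ex A₁ N ∧ (N ⊓ centralizer (A : Set G)).relIndex (N ⊓ centralizer (A₁ : Set G)) = 2 := by
  -- `|A : C_A(N)| = 2 |A₁ : C_{A₁}(N)|`
  have e1 : (centralizer (N : Set G)).relIndex A₁ * 2 = (centralizer (N : Set G)).relIndex A := by
    have h3 : (A ⊓ centralizer (N : Set G)).relIndex A₁ * A₁.relIndex A =
        (A ⊓ centralizer (N : Set G)).relIndex A := relIndex_mul_relIndex _ _ _ hC hAA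
    rw [h2] at h3
    have h4 : (A ⊓ centralizer (N : Set G)).relIndex A = (centralizer (N : Set G)).relIndex A := by
      rw [inf_comm]; exact inf_relIndex_right _ _
    have h5 : (A ⊓ centralizer (N : Set G)).relIndex A₁ = (centralizer (N : Set G)).relIndex A₁ := by
      have h6 : A ⊓ centralizer (N : Set G) = (centralizer (N : Set G)) ⊓ A₁ := by
        refine le_antisymm (le_inf inf_le_right hC) (le_inf (inf_le_right.trans hAA) inf_le_left)
      rw [h6]; exact inf_relIndex_right _ _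
    rw [h4, h5] at h3
    exact h3
  have hle : N ⊓ centralizer (A : Set G) ≤ N ⊓ centralizer (A₁ : Set G) :=
    inf_le_inf_left _ (centralizer_le hAA)
  have e2 : (N ⊓ centralizer (A : Set G)).relIndex (N ⊓ centralizer (A₁ : Set G)) *
      (centralizer (A₁ : Set G)).relIndex N = (centralizer (A : Set G)).relIndex N := by
    have h3 := relIndex_mul_relIndex _ _ _ hle (inf_le_left : N ⊓ centralizer (A₁ : Set G) ≤ N)
    have h4 : (N ⊓ centralizer (A₁ : Set G)).relIndex N = (centralizer (A₁ : Set G)).relIndex N := by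
      rw [inf_comm]; exact inf_relIndex_right _ _
    have h5 : (N ⊓ centralizer (A : Set G)).relIndex N = (centralizer (A : Set G)).relIndex N := by
      rw [inf_comm]; exact inf_relIndex_right _ _
    rw [h4, h5] at h3
    exact h3
  set r := (N ⊓ centralizer (A : Set G)).relIndex (N ⊓ centralizer (A₁ : Set G)) with hr
  have hr0 : r ≠ 0 := rix_ne _ _
  have hr1 : r ≠ 1 := fun h => hn2 ((relIndex_eq_one.1 h) ⟨hn, hn1⟩).2
  have hr2 : 2 ≤ r := by omega
  have hA' : (centralizer (N : Set G)).relIndex A = (centralizer (A : Set G)).relIndex N := hA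
  have g0 : (centralizer (A₁ : Set G)).relIndex N ≠ 0 := rix_ne _ _
  have e3 : r * (centralizer (A₁ : Set G)).relIndex N = (centralizer (N : Set G)).relIndex A₁ * 2 := by
    rw [e2, e1, hA']
  have h7 : 2 * (centralizer (A₁ : Set G)).relIndex N ≤ r * (centralizer (A₁ : Set G)).relIndex N :=
    Nat.mul_le_mul_right _ hr2
  have h8 : (centralizer (N : Set G)).relIndex A₁ = (centralizer (A₁ : Set G)).relIndex N := by omega
  refine ⟨h8, ?_⟩
  rw [h8] at e3
  have h9 : r * (centralizer (A₁ : Set G)).relIndex N = 2 * (centralizer (A₁ : Set G)).relIndex N := by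
    rw [e3]; ring
  exact Nat.eq_of_mul_eq_mul_right (Nat.pos_of_ne_zero g0) h9

/-- **THEOREM INT, (2).** -/
theorem core (hN : IsElementaryAbelian 2 N) (hZN : Z₂ ≤ N)
    (hNO : ∀ B : Subgroup G, IsElementaryAbelian 2 B → B ≤ O →
      (centralizer (N : Set G)).relIndex B ≤ (centralizer (B : Set G)).relIndex N)
    (hLift : ∀ B : Subgroup G, IsElementaryAbelian 2 B → B ≤ O → Ex B N → ∀ n ∈ N,
      (∀ b ∈ B, n * b * n⁻¹ * b⁻¹ ∈ Z₂) → n ∈ centralizer (B : Set G))
    {A R : Subgroup G} (hA : IsElementaryAbelian 2 A) (hAO : A ≤ O) (hAe : Ex A N)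
    {x y i a : G} (hx : x ∈ N) (hy : y ∈ N) (hi : i ∈ N) (haA : a ∈ A) (hxy : a * x * a⁻¹ = y)
    (hAx : ∀ b ∈ A, b * x * b⁻¹ = x ∨ b * x * b⁻¹ = y)
    (hAN : ∀ b ∈ A, ∀ n ∈ N, b * n * b⁻¹ ∈ N)
    (hAZ : ∀ b ∈ A, ∀ z ∈ Z₂, b * z = z * b)
    (hxyZ : x * y ∉ Z₂)
    (hAR : ∀ b ∈ A, b * x = x * b → b ∈ R) (haR : ∀ b ∈ R, a⁻¹ * b * a ∈ R)
    (hRx : ∀ b ∈ R, b * x = x * b) (hRy : ∀ b ∈ R, b * y = y * b)
    (hiR : ∀ b ∈ R, i * b * i⁻¹ * b⁻¹ ∈ Z₂ ∨ x * (i * b * i⁻¹ * b⁻¹) ∈ Z₂) :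
    ∀ b ∈ R, i * b * i⁻¹ * b⁻¹ ∈ Z₂ := by
  obtain ⟨hNc, hNs⟩ := eab_iff.1 hN
  obtain ⟨hAc, hAs⟩ := eab_iff.1 hA
  have cN : ∀ p ∈ N, ∀ q ∈ N, p * q = q * p := fun p hp q hq => (mem_centralizer_iff.1 (hNc hq) p hp)
  have sN : ∀ p ∈ N, p * p = 1 := fun p hp => by rw [← pow_two]; exact hNs p hp
  have iN : ∀ p ∈ N, p⁻¹ = p := fun p hp => inv_eq_of_mul_eq_one_right (sN p hp)
  have cA : ∀ p ∈ A, ∀ q ∈ A, p * q = q * p := fun p hp q hq => (mem_centralizer_iff.1 (hAc hq) p hp)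
  have sA : ∀ p ∈ A, p * p = 1 := fun p hp => by rw [← pow_two]; exact hAs p hp
  have hne : x * y ≠ 1 := fun h => hxyZ (h ▸ one_mem _)
  have hxny : x ≠ y := fun h => hne (by rw [← h, sN x hx])
  -- `a` swaps `x` and `y`
  have hyx : a * y * a⁻¹ = x := by
    rw [← hxy]
    calc a * (a * x * a⁻¹) * a⁻¹ = (a * a) * x * (a * a)⁻¹ := by group
      _ = x := by rw [sA a haA]; group
  have hAy : ∀ b ∈ A, b * x = x * b → b * y = y * b := by
    intro b hb hbx
    rw [← hxy]
    calc b * (a * x * a⁻¹) = (b * a) * x * a⁻¹ := by group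
      _ = a * (b * x) * a⁻¹ := by rw [cA b hb a haA]; group
      _ = a * x * (b * a⁻¹) := by rw [hbx]; group
      _ = a * x * (a⁻¹ * b) := by rw [cA b hb a⁻¹ (inv_mem haA)]
      _ = a * x * a⁻¹ * b := by group
  set A₀ : Subgroup G := A ⊓ centralizer {x} with hA₀
  have mA₀ : ∀ b, b ∈ A₀ ↔ b ∈ A ∧ b * x = x * b := by
    intro b
    rw [hA₀, mem_inf, mem_centralizer_singleton_iff]
  have hA₀A : A₀ ≤ A := inf_le_left
  have hA₀e : IsElementaryAbelian 2 A₀ := eab_mono hA hA₀A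
  have h2 : A₀.relIndex A = 2 := by
    change (A₀.subgroupOf A).index = 2
    refine index_eq_two_iff.2 ⟨⟨a, haA⟩, fun b => ?_⟩
    obtain ⟨b, hb⟩ := b
    simp only [mem_subgroupOf, MulMemClass.mk_mul_mk, mA₀]
    by_cases hbx : b * x = x * b
    · right
      refine ⟨⟨hb, hbx⟩, fun h => hxny ?_⟩
      have h3 : (b * a) * x * (b * a)⁻¹ = x := by rw [h.2, mul_inv_cancel_right]
      have h4 : (b * a) * x * (b * a)⁻¹ = y := by
        calc (b * a) * x * (b * a)⁻¹ = b * (a * x * a⁻¹) * b⁻¹ := by group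
          _ = y := by rw [hxy, hAy b hb hbx, mul_inv_cancel_right]
      rw [← h3, h4]
    · left
      refine ⟨⟨mul_mem hb haA, ?_⟩, fun h => hbx h.2⟩
      have h3 : b * x * b⁻¹ = y := (hAx b hb).resolve_left fun h => hbx (by
        calc b * x = b * x * b⁻¹ * b := by group
          _ = x * b := by rw [h])
      have h4 : (b * a) * x * (b * a)⁻¹ = x := by
        rw [cA b hb a haA]
        calc (a * b) * x * (a * b)⁻¹ = a * (b * x * b⁻¹) * a⁻¹ := by group
          _ = x := by rw [h3, hyx]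
      calc (b * a) * x = (b * a) * x * (b * a)⁻¹ * (b * a) := by group
        _ = x * (b * a) := by rw [h4]
  have hCA : A ⊓ centralizer (N : Set G) ≤ A₀ := by
    intro b hb
    exact (mA₀ b).2 ⟨hb.1, (mem_centralizer_iff.1 hb.2 x hx).symm⟩
  have hxA₀ : x ∈ centralizer (A₀ : Set G) :=
    mem_centralizer_iff.2 fun b hb => ((mA₀ b).1 hb).2
  have hxA : x ∉ centralizer (A : Set G) := by
    intro h
    have h3 := mem_centralizer_iff.1 h a haA
    apply hxny
    rw [← hxy, h3, mul_inv_cancel_right]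
  obtain ⟨hA₀x, hidx⟩ := half hA₀A h2 hCA hAe (hNO A₀ hA₀e (hA₀A.trans hAO)) hx hxA₀ hxA
  -- commutators
  set i' := a * i * a⁻¹ with hi'
  have hi'N : i' ∈ N := hAN a haA i hi
  have hA₀R : ∀ b ∈ A₀, b ∈ R := fun b hb => hAR b ((mA₀ b).1 hb).1 ((mA₀ b).1 hb).2
  have cmem : ∀ b ∈ R, i * b * i⁻¹ * b⁻¹ ∈ N := by
    intro b hb
    rcases hiR b hb with h | h
    · exact hZN h
    · have h3 := mul_mem hx (hZN h)
      rwa [← mul_assoc, sN x hx, one_mul] at h3
  have c' : ∀ b : G, i' * b * i'⁻¹ * b⁻¹ = a * (i * (a⁻¹ * b * a) * i⁻¹ * (a⁻¹ * b * a)⁻¹) * a⁻¹ := by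
    intro b; rw [hi']; group
  have hiR' : ∀ b ∈ R, i' * b * i'⁻¹ * b⁻¹ ∈ Z₂ ∨ y * (i' * b * i'⁻¹ * b⁻¹) ∈ Z₂ := by
    intro b hb
    rw [c']
    rcases hiR _ (haR b hb) with h | h
    · left
      rw [hAZ a haA _ h, mul_inv_cancel_right]
      exact h
    · right
      have h3 : y * (a * (i * (a⁻¹ * b * a) * i⁻¹ * (a⁻¹ * b * a)⁻¹) * a⁻¹) =
          a * (x * (i * (a⁻¹ * b * a) * i⁻¹ * (a⁻¹ * b * a)⁻¹)) * a⁻¹ := by
        rw [← hxy]; group
      rw [h3, hAZ a haA _ h, mul_inv_cancel_right]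
      exact h
  by_cases hp : ∀ b ∈ A₀, i * b * i⁻¹ * b⁻¹ ∈ Z₂
  · -- case (a)
    have h3 : i ∈ centralizer (A₀ : Set G) := hLift A₀ hA₀e (hA₀A.trans hAO) hA₀x i hi hp
    have h4 : ∀ b ∈ R, i' * b * i'⁻¹ * b⁻¹ = i * b * i⁻¹ * b⁻¹ := by
      by_cases hiA : i ∈ centralizer (A : Set G)
      · have h5 : i' = i := by
          rw [hi', mem_centralizer_iff.1 hiA a haA, mul_inv_cancel_right]
        intro b _; rw [h5]
      · have h5 : x * i ∈ N ⊓ centralizer (A : Set G) :=
          index_two_mul (inf_le_inf_left _ (centralizer_le hA₀A)) hidx.le ⟨hx, hxA₀⟩ ⟨hi, h3⟩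
            (fun h => hxA h.2) (fun h => hiA h.2)
        have h6 : a * (x * i) * a⁻¹ = x * i := by
          rw [mem_centralizer_iff.1 h5.2 a haA, mul_inv_cancel_right]
        have h7 : y * i' = x * i := by
          rw [← h6, ← hxy, hi']; group
        have h8 : i' = (x * y) * i := by
          calc i' = y * (y * i') := by rw [← mul_assoc, sN y hy, one_mul]
            _ = (y * x) * i := by rw [h7, mul_assoc]
            _ = (x * y) * i := by rw [cN y hy x hx]
        intro b hb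
        have h9 : b * (x * y) = (x * y) * b := by
          rw [← mul_assoc, hRx b hb, mul_assoc, hRy b hb, mul_assoc]
        have h10 := cN (x * y) (mul_mem hx hy) _ (cmem b hb)
        rw [h8]
        calc x * y * i * b * (x * y * i)⁻¹ * b⁻¹
            = (x * y) * (i * b * i⁻¹ * b⁻¹) * (b * (x * y)⁻¹) * b⁻¹ := by group
          _ = (i * b * i⁻¹ * b⁻¹) * (x * y) * (b * (x * y)⁻¹) * b⁻¹ := by rw [h10]
          _ = (i * b * i⁻¹ * b⁻¹) * ((x * y) * b) * (x * y)⁻¹ * b⁻¹ := by group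
          _ = (i * b * i⁻¹ * b⁻¹) * (b * (x * y)) * (x * y)⁻¹ * b⁻¹ := by rw [h9]
          _ = i * b * i⁻¹ * b⁻¹ := by group
    intro b hb
    rcases hiR b hb with h | h
    · exact h
    · rcases hiR' b hb with h' | h'
      · rwa [h4 b hb] at h'
      · exfalso
        rw [h4 b hb] at h'
        apply hxyZ
        have h5 := mul_mem h h'
        have h6 := cmem b hb
        have e : x * (i * b * i⁻¹ * b⁻¹) * (y * (i * b * i⁻¹ * b⁻¹)) = x * y := by
          calc x * (i * b * i⁻¹ * b⁻¹) * (y * (i * b * i⁻¹ * b⁻¹))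
              = x * ((i * b * i⁻¹ * b⁻¹) * y) * (i * b * i⁻¹ * b⁻¹) := by group
            _ = x * (y * (i * b * i⁻¹ * b⁻¹)) * (i * b * i⁻¹ * b⁻¹) := by rw [cN _ h6 y hy]
            _ = x * y * ((i * b * i⁻¹ * b⁻¹) * (i * b * i⁻¹ * b⁻¹)) := by group
            _ = x * y := by rw [sN _ h6, mul_one]
        rwa [e] at h5
  · -- case (b)
    exfalso
    push Not at hp
    obtain ⟨b₀, hb₀, hb₀Z⟩ := hp
    set d := i * i' with hd
    have hdN : d ∈ N := mul_mem hi hi'N
    -- `[i', b]` for `b ∈ A₀`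
    have cb : ∀ b ∈ A₀, i' * b * i'⁻¹ * b⁻¹ = a * (i * b * i⁻¹ * b⁻¹) * a⁻¹ := by
      intro b hb
      have h3 : a⁻¹ * b * a = b := by
        rw [cA _ (inv_mem haA) b (hA₀A hb), inv_mul_cancel_right]
      rw [c', h3]
    have dc : ∀ b ∈ A₀, d * b * d⁻¹ * b⁻¹ = (i * b * i⁻¹ * b⁻¹) * (i' * b * i'⁻¹ * b⁻¹) := by
      intro b hb
      have h3 := cmem b (hA₀R b hb)
      have h4 : i' * b * i'⁻¹ * b⁻¹ ∈ N := by
        rw [cb b hb]; exact hAN a haA _ h3
      calc d * b * d⁻¹ * b⁻¹ = i * (i' * b * i'⁻¹ * b⁻¹) * (b * i⁻¹ * b⁻¹) := by rw [hd]; group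
        _ = (i' * b * i'⁻¹ * b⁻¹) * i * (b * i⁻¹ * b⁻¹) := by rw [cN i hi _ h4]
        _ = (i' * b * i'⁻¹ * b⁻¹) * (i * b * i⁻¹ * b⁻¹) := by group
        _ = (i * b * i⁻¹ * b⁻¹) * (i' * b * i'⁻¹ * b⁻¹) := cN _ h4 _ h3
    have dZ : ∀ b ∈ A₀, i * b * i⁻¹ * b⁻¹ ∈ Z₂ → d * b * d⁻¹ * b⁻¹ = 1 := by
      intro b hb h
      rw [dc b hb, cb b hb, hAZ a haA _ h, mul_inv_cancel_right]
      exact sN _ (hZN h)
    have dX : ∀ b ∈ A₀, i * b * i⁻¹ * b⁻¹ ∉ Z₂ → d * b * d⁻¹ * b⁻¹ = x * y := by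
      intro b hb h
      have h3 := (hiR b (hA₀R b hb)).resolve_left h
      have h4 := cmem b (hA₀R b hb)
      set c := i * b * i⁻¹ * b⁻¹ with hc
      have h5 : a * c * a⁻¹ = y * (x * c) := by
        calc a * c * a⁻¹ = a * ((x * x) * c) * a⁻¹ := by rw [sN x hx, one_mul]
          _ = (a * x * a⁻¹) * (a * (x * c) * a⁻¹) := by group
          _ = y * (x * c) := by rw [hxy, hAZ a haA _ h3, mul_inv_cancel_right]
      rw [dc b hb, cb b hb, ← hc, h5]
      calc c * (y * (x * c)) = (c * (y * x)) * c := by group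
        _ = ((y * x) * c) * c := by rw [cN c h4 (y * x) (mul_mem hy hx)]
        _ = (y * x) * (c * c) := by group
        _ = x * y := by rw [sN c h4, mul_one, cN y hy x hx]
    set B : Subgroup G := A₀ ⊓ centralizer {d} with hB
    have mB : ∀ b, b ∈ B ↔ b ∈ A₀ ∧ b * d = d * b := by
      intro b
      rw [hB, mem_inf, mem_centralizer_singleton_iff]
    have hBA₀ : B ≤ A₀ := inf_le_left
    have hBe : IsElementaryAbelian 2 B := eab_mono hA₀e hBA₀
    have mB' : ∀ b ∈ A₀, (b ∈ B ↔ i * b * i⁻¹ * b⁻¹ ∈ Z₂) := by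
      intro b hb
      constructor
      · intro h
        by_contra hcon
        have h3 := dX b hb hcon
        have h4 := ((mB b).1 h).2
        apply hne
        rw [← h3, ← h4]; group
      · intro h
        refine (mB b).2 ⟨hb, ?_⟩
        have h3 := dZ b hb h
        calc b * d = (d * b * d⁻¹ * b⁻¹)⁻¹ * (d * b) := by group
          _ = d * b := by rw [h3]; group
    have hb₀B : b₀ ∉ B := fun h => hb₀Z ((mB' b₀ hb₀).1 h)
    have hmulc : ∀ b ∈ A₀, ∀ b' ∈ A₀, d * (b * b') * d⁻¹ * (b * b')⁻¹ =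
        (d * b * d⁻¹ * b⁻¹) * (b * (d * b' * d⁻¹ * b'⁻¹) * b⁻¹) := by
      intro b _ b' _; group
    have hbxy : ∀ b ∈ A₀, b * (x * y) * b⁻¹ = x * y := by
      intro b hb
      obtain ⟨h3, h4⟩ := (mA₀ b).1 hb
      rw [← mul_assoc, h4, mul_assoc x b y, hAy b h3 h4, ← mul_assoc, mul_inv_cancel_right]
    have hB2 : B.relIndex A₀ = 2 := by
      change (B.subgroupOf A₀).index = 2
      refine index_eq_two_iff.2 ⟨⟨b₀, hb₀⟩, fun b => ?_⟩
      obtain ⟨b, hb⟩ := b
      simp only [mem_subgroupOf, MulMemClass.mk_mul_mk]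
      have comm_iff : ∀ g : G, g * d = d * g ↔ d * g * d⁻¹ * g⁻¹ = 1 := by
        intro g
        constructor
        · intro h
          rw [← h]; group
        · intro h
          calc g * d = (d * g * d⁻¹ * g⁻¹)⁻¹ * (d * g) := by group
            _ = d * g := by rw [h]; group
      by_cases hbB : b ∈ B
      · right
        refine ⟨hbB, fun h => ?_⟩
        have h3 := (comm_iff _).1 ((mB _).1 h).2
        rw [hmulc b hb b₀ hb₀, (comm_iff b).1 ((mB b).1 hbB).2, dX b₀ hb₀ hb₀Z, hbxy b hb, one_mul] at h3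
        exact hne h3
      · left
        refine ⟨(mB _).2 ⟨mul_mem hb hb₀, (comm_iff _).2 ?_⟩, hbB⟩
        rw [hmulc b hb b₀ hb₀, dX b hb (fun h => hbB ((mB' b hb).2 h)), dX b₀ hb₀ hb₀Z, hbxy b hb]
        exact sN _ (mul_mem hx hy)
    have hCB : A₀ ⊓ centralizer (N : Set G) ≤ B := by
      intro b hb
      exact (mB b).2 ⟨hb.1, (mem_centralizer_iff.1 hb.2 d hdN).symm⟩
    have hdB : d ∈ centralizer (B : Set G) := mem_centralizer_iff.2 fun b hb => ((mB b).1 hb).2
    have hdA₀ : d ∉ centralizer (A₀ : Set G) := by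
      intro h
      have h3 := mem_centralizer_iff.1 h b₀ hb₀
      exact hb₀B ((mB b₀).2 ⟨hb₀, h3⟩)
    obtain ⟨hBx, hBidx⟩ := half hBA₀ hB2 hCB hA₀x (hNO B hBe (hBA₀.trans (hA₀A.trans hAO))) hdN hdB hdA₀
    have hiB : i ∈ centralizer (B : Set G) :=
      hLift B hBe (hBA₀.trans (hA₀A.trans hAO)) hBx i hi fun b hb => (mB' b (hBA₀ hb)).1 hb
    have hi'B : i' ∈ centralizer (B : Set G) := by
      refine mem_centralizer_iff.2 fun b hb => ?_
      have h3 := mem_centralizer_iff.1 hiB b hb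
      have h4 := cA b (hA₀A (hBA₀ hb)) a haA
      have h5 := cA b (hA₀A (hBA₀ hb)) a⁻¹ (inv_mem haA)
      calc b * i' = (b * a) * i * a⁻¹ := by rw [hi']; group
        _ = a * (b * i) * a⁻¹ := by rw [h4]; group
        _ = a * i * (b * a⁻¹) := by rw [h3]; group
        _ = i' * b := by rw [h5, hi']; group
    have hiA₀ : i ∉ centralizer (A₀ : Set G) := by
      intro h
      apply hb₀Z
      have h3 := mem_centralizer_iff.1 h b₀ hb₀
      have h4 : i * b₀ * i⁻¹ * b₀⁻¹ = 1 := by rw [← h3]; group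
      rw [h4]; exact one_mem _
    have hi'A₀ : i' ∉ centralizer (A₀ : Set G) := by
      intro h
      apply hiA₀
      refine mem_centralizer_iff.2 fun b hb => ?_
      have h3 := mem_centralizer_iff.1 h b hb
      have h4 := cA b (hA₀A hb) a haA
      have h5 := cA b (hA₀A hb) a⁻¹ (inv_mem haA)
      have e : i = a⁻¹ * i' * a := by rw [hi']; group
      calc b * i = (b * a⁻¹) * i' * a := by rw [e]; group
        _ = a⁻¹ * (b * i') * a := by rw [h5]; group
        _ = a⁻¹ * i' * (b * a) := by rw [h3]; group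
        _ = i * b := by rw [h4, e]; group
    have h3 : i * i' ∈ N ⊓ centralizer (A₀ : Set G) :=
      index_two_mul (inf_le_inf_left _ (centralizer_le hBA₀)) hBidx.le ⟨hi, hiB⟩ ⟨hi'N, hi'B⟩
        (fun h => hiA₀ h.2) (fun h => hi'A₀ h.2)
    exact hdA₀ h3.2

end

end Cfsg.Agent.Omega.OM.PG.Int

end
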