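import Cfsg.Agent.Mrg.Omega.FrameI
import Cfsg.Agent.Mrg.Omega.VP


/-!
# Leaf NO-3S: the common language of all pieces

`S` a Sylow 2-subgroup of `G`, `Z = Ω₁(Z(S)) = zc S`, `C = C_G(Z) = CZ S`, `P ∈ P*(S)`, `V = V_P = ⟨Z^P⟩ = zl S P`.
Points are the cosets `x C` (the conjugates `Z^x`), lines the conjugates of `V`;
`WW S P = ⟨V^C⟩`, `W_x = (WW S P)^x`.

* `Hyp S P` : the hypotheses of every piece: `P ∈ P*(S)`, `⟨P, C⟩` nonlocal, `Geo S Z C {P}` (lines on a common
  point commute, `V^g` and `V^h` commute if they normalise each other); **no hypothesis on the other members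
  of `P*(S)`**;
* `HypN S P` : moreover no mutual pair and `V_R ≤ O₂(C)` for all `R ∈ P*(S)` (the leaf `FrameNOFF.NodeNO3S`);
* `HypN.of` : the leaf gives `HypN S P`;
* `Hyp.of_noff`, `Hyp.of_four` : `Hyp` without NOFF for the other types; if `|V| = 4` it is enough that `W` is
  abelian;
* `Hyp.exists_crit` : a critical pair `(1, y)` at distance `n ≥ 1`; `Hyp.cen` : `C_V(O²(P)) = 1`;
* `WN S P = ⟨V^{N_G(Z)}⟩`, `CritN`, `Hyp.geoN`, `Hyp.exists_critN` : the same geometry with `N_G(Z)` for `C_G(Z)`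
  (points = conjugates of `Z`); to be used for `q ≥ 4`; for `|Z| = 2` it is the same;
* `FrameFF.Single S P` : `V / C_V(O²(P))` natural for a normal `SL₂(F)` of `P / C_P(V)`; under `Hyp`
  `C_V(O²(P)) = 1` (`Hyp.cv`);  `NatP F V P` : the same for `V` itself, with the parametrisation `e : F² → V` of
  `NatPair.NatMod`; `NatP.ofNatOver`, `NatP.natMod`, `NatP.card`, `Hyp.exists_natP`;
* `FFMod S P` : `V` is an FF-module for `P / C_P(V)`: some `A ≤ S`, elementary abelian and nontrivial on `V`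
  (not necessarily elementary abelian itself), has `|V : C_V(A)| ≤ |A : C_A(V)|` (`FFThm.OffM`); `ffMod_iff`,
  `FFMod.of_off`, `Hyp.ff` (the FF theorem `FFThm.StmtM`, `Omega/FFThmM.lean`);
* `HypJ S P` : `HypN` and `J(S) ≰ O₂(P)`; `HypJ.exists_off`, `HypJ.ff` (group form `FFThm.Stmt`);
  `HypC S` : `J(S) ≤ O₂(P)` for all nonlocal `P`; `Uniq S P` : `V_R = V_P` and `C_Z(R) = 1` for all `R ∈ P*(S)`
  (LEMMA UNIQ #14528), `Uniq.ti`, `Uniq.ns`.
-/

set_option autoImplicit false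
set_option linter.unusedSectionVars false

namespace Cfsg.Agent.Omega.NO3S

open Subgroup Cfsg Cfsg.Agent.ZN Cfsg.Agent.Omega.MinPar Cfsg.Agent.Omega.Frame Cfsg.Agent.Omega.FrameNOFF
open Cfsg.Agent.Omega.FrameFF (NatOver cv Single Free)
open Cfsg.Agent.Omega.NoFF.Lines Cfsg.Agent.Omega.NatPair
open Cfsg.Agent.MinSimple.VModule
open scoped Pointwise

universe u

section defs

variable {G : Type u} [Group G]

/-- `W = ⟨V_P^c : c ∈ C_G(Z)⟩`. -/
abbrev WW (S P : Subgroup G) : Subgroup G := W (zc S) (CZ S) {P}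

/-- `(x, y)` is a critical pair at distance `n`. -/
abbrev CritP (S P : Subgroup G) (n : ℕ) (x y : G) : Prop := Crit (zc S) (CZ S) {P} n x y

/-- `W = ⟨V_P^c : c ∈ N_G(Z)⟩`. -/
abbrev WN (S P : Subgroup G) : Subgroup G := W (zc S) (normalizer (zc S : Set G)) {P}

/-- `(x, y)` is a critical pair at distance `n`; the points are the conjugates `Z^x` of `Z` (cosets of
`N_G(Z)`).  For `q ≥ 4`; if `|Z| = 2` then `N_G(Z) = C_G(Z)`. -/
abbrev CritN (S P : Subgroup G) (n : ℕ) (x y : G) : Prop :=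
  Crit (zc S) (normalizer (zc S : Set G)) {P} n x y

/-- `V` is the natural module `F²` of a normal subgroup `SL₂(F)` of `P / C_P(V)`. -/
structure NatP (F : Type*) [Field F] (V P : Subgroup G) where
  e : (Fin 2 → F) → G
  e_add : ∀ x y, e (x + y) = e x * e y
  e_inj : Function.Injective e
  mem_iff : ∀ g, g ∈ V ↔ ∃ x, e x = g
  lift : ∀ A : Matrix.SpecialLinearGroup (Fin 2) F, ∃ g ∈ P, ∀ x, g * e x * g⁻¹ = e (ap A x)
  norm : ∀ g ∈ P, ∀ (h : G) (A : Matrix.SpecialLinearGroup (Fin 2) F),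
    (∀ x, h * e x * h⁻¹ = e (ap A x)) → ∃ B : Matrix.SpecialLinearGroup (Fin 2) F,
      ∀ x, g * h * g⁻¹ * e x * (g * h * g⁻¹)⁻¹ = e (ap B x)

/-- `V_P` is an FF-module for `P / C_P(V_P)`. -/
def FFMod (S P : Subgroup G) : Prop := ∃ A : Subgroup G, A ≤ S ∧ FFThm.OffM (zl S P) A

end defs

/-! ### The hypotheses -/

/-- **The hypotheses of the pieces of NO-3S.** -/
structure Hyp {G : Type u} [Group G] [Finite G] (S : Sylow 2 G) (P : Subgroup G) : Prop where
  ctx : Ctx G
  full : Full (S : Subgroup G)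
  star : IsParS (S : Subgroup G) P
  nonLoc : NonLoc P (CZ (S : Subgroup G))
  geo : Geo (S : Subgroup G) (zc (S : Subgroup G)) (CZ (S : Subgroup G)) {P}

section facts

variable {G : Type u} [Group G] [Finite G] {S : Sylow 2 G} {P : Subgroup G}

/-- Without NOFF for other types: the hypotheses from `V ≤ O₂(C)` and NOFF for the type `P`. -/
theorem Hyp.of_noff (hG : Ctx G) (hF : Full (S : Subgroup G))
    (hP : IsParS (S : Subgroup G) P) (hn : NonLoc P (CZ (S : Subgroup G)))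
    (hlow : zl (S : Subgroup G) P ≤ o2 (CZ (S : Subgroup G)))
    (noff : ∀ g : G, zl (S : Subgroup G) P ≤ MulAut.conj g • P →
      MulAut.conj g • zl (S : Subgroup G) P ≤ P →
      zl (S : Subgroup G) P ≤
        centralizer ((MulAut.conj g • zl (S : Subgroup G) P : Subgroup G) : Set G)) : Hyp S P where
  ctx := hG
  full := hF
  star := hP
  nonLoc := hn
  geo :=
    { ZS := zc_le _
      cent := le_centralizer_zc _
      SP := fun Q hQ => by rw [Set.mem_singleton_iff.1 hQ]; exact hP.isLoc.le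
      abel := by
        intro Q hQ
        rw [Set.mem_singleton_iff.1 hQ]
        have h1 := hP.isLoc.zl_le S hG.char2
        intro x hx
        rw [mem_centralizer_iff]
        intro y hy
        exact zc_comm _ _ (h1 hy) _ (h1 hx)
      core := by
        intro Q hQ p hp x hx hxc
        rw [Set.mem_singleton_iff.1 hQ] at hp hxc
        have h1 := hP.inf_centralizer S hG.char2
        have h2 : x ∈ o2 P := h1 ▸ ⟨hx, hxc⟩
        exact NoFF.LinesPlug.o2_le_conj S hP.isLoc hp h2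
      noff := by
        intro Q hQ Q' hQ' g h1 h2
        rw [Set.mem_singleton_iff.1 hQ] at h1 h2 ⊢
        rw [Set.mem_singleton_iff.1 hQ'] at h1 h2 ⊢
        exact noff g h1 h2
      CZ := centralizer_le_normalizer _
      cen := le_rfl
      low := by
        intro Q hQ c hc
        rw [Set.mem_singleton_iff.1 hQ]
        exact hlow.trans (NoFF.LinesPlug.o2_le_conj S (isLoc_centralizer_zc S (hG.sylow_ne_bot S)) hc)
      Zsq := zc_sq _ }

omit [Finite G] in
/-- `V ≤ W`. -/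
theorem zl_le_WW : zl (S : Subgroup G) P ≤ WW (S : Subgroup G) P := by
  have h1 := line_le (Z := zc (S : Subgroup G)) (C := CZ (S : Subgroup G)) (F := {P})
    (Set.mem_singleton P) (one_mem _)
  rwa [map_one, one_smul] at h1

omit [Finite G] in
theorem conj_zl_le_WW {c : G} (hc : c ∈ CZ (S : Subgroup G)) :
    MulAut.conj c • zl (S : Subgroup G) P ≤ WW (S : Subgroup G) P :=
  line_le (Z := zc (S : Subgroup G)) (C := CZ (S : Subgroup G)) (F := {P})
    (Set.mem_singleton P) hc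

/-- `W` abelian implies `V ≤ O₂(C)`. -/
theorem zl_le_o2_of_comm (hG : Ctx G) (hP : IsParS (S : Subgroup G) P)
    (hW : WW (S : Subgroup G) P ≤ centralizer (WW (S : Subgroup G) P : Set G)) :
    zl (S : Subgroup G) P ≤ o2 (CZ (S : Subgroup G)) := by
  have hVS : zl (S : Subgroup G) P ≤ (S : Subgroup G) :=
    ((hP.isLoc.zl_le S hG.char2).trans (zc_le _)).trans (hP.isLoc.o2_le S)
  have hSC : (S : Subgroup G) ≤ CZ (S : Subgroup G) := le_centralizer_zc _
  have hWC : WW (S : Subgroup G) P ≤ CZ (S : Subgroup G) := by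
    refine W_le fun Q hQ c hc => ?_
    rw [Set.mem_singleton_iff.1 hQ]
    have h1 := NoFF.Basic.conj_le_iff (g := c) |>.2 (hVS.trans hSC)
    rwa [NoFF.Basic.conj_self hc] at h1
  have hn : CZ (S : Subgroup G) ≤ normalizer (WW (S : Subgroup G) P : Set G) :=
    C_le_normalizer_W
  have hsq : ∀ w ∈ WW (S : Subgroup G) P, w ^ 2 = 1 := by
    refine NoFF.Lines.Geo.sq_of_comm hW (ι := CZ (S : Subgroup G))
      (B := fun i => MulAut.conj (i : G) • zl (S : Subgroup G) P)
      (fun i => conj_zl_le_WW i.2) (W_le fun Q hQ c hc => ?_) fun i => ?_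
    · rw [Set.mem_singleton_iff.1 hQ]
      exact le_iSup (fun i : CZ (S : Subgroup G) => MulAut.conj (i : G) • zl (S : Subgroup G) P) ⟨c, hc⟩
    · exact NoFF.Lines.Geo.conj_sq (fun v hv => zc_sq _ _ (hP.isLoc.zl_le S hG.char2 hv)) _
  refine zl_le_WW.trans (MinSimple.VModule.le_o2 hWC ?_ hn)
  intro w
  exact ⟨1, Subtype.ext (by simpa using hsq w w.2)⟩

omit [Finite G] in
theorem zc_le_zl' : zc (S : Subgroup G) ≤ zl (S : Subgroup G) P := zc_le_zl _ _

/-- A group of order 4 with three distinct nontrivial elements `a`, `b`. -/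
theorem eq_of_card_four {V : Subgroup G} (hc : Nat.card V = 4) (hsq : ∀ v ∈ V, v ^ 2 = 1)
    {a b x : G} (ha : a ∈ V) (ha1 : a ≠ 1) (hb : b ∈ V) (hb1 : b ≠ 1) (hab : a ≠ b) (hx : x ∈ V)
    (hx1 : x ≠ 1) : x = a ∨ x = b ∨ x = a * b := by
  classical
  by_contra hcon
  push Not at hcon
  obtain ⟨h1, h2, h3⟩ := hcon
  have haa : a * a = 1 := by have := hsq a ha; rwa [pow_two] at this
  have hbb : b * b = 1 := by have := hsq b hb; rwa [pow_two] at this
  have hab1 : a * b ≠ 1 := fun h => hab (by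
    have : a = b⁻¹ := mul_eq_one_iff_eq_inv.1 h
    rw [this, inv_eq_of_mul_eq_one_left hbb])
  let f : Fin 5 → V := ![1, ⟨a, ha⟩, ⟨b, hb⟩, ⟨a * b, V.mul_mem ha hb⟩, ⟨x, hx⟩]
  have hf : Function.Injective f := by
    intro i j hij
    have hij' : ((f i : V) : G) = f j := congrArg Subtype.val hij
    fin_cases i <;> fin_cases j <;> simp [f] at hij' ⊢ <;>
      first
        | exact absurd hij' ha1.symm
        | exact absurd hij' ha1
        | exact absurd hij' hb1.symm
        | exact absurd hij' hb1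
        | exact absurd hij' hx1.symm
        | exact absurd hij' hx1
        | exact absurd hij' hab
        | exact absurd hij' hab.symm
        | exact absurd hij' hab1
        | exact absurd hij'.symm hab1
        | exact absurd hij' h1
        | exact absurd hij'.symm h1
        | exact absurd hij' h2
        | exact absurd hij'.symm h2
        | exact absurd hij' h3
        | exact absurd hij'.symm h3
  have h5 := Nat.card_le_card_of_injective f hf
  rw [hc] at h5
  simp at h5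

section four

variable (hG : Ctx G) (hP : IsParS (S : Subgroup G) P) (hn : NonLoc P (CZ (S : Subgroup G)))
  (hc : Nat.card (zl (S : Subgroup G) P) = 4)
include hG hP hn hc

omit hn hc in
theorem zl_sq_four : ∀ v ∈ zl (S : Subgroup G) P, v ^ 2 = 1 :=
  fun _ hv => zc_sq _ _ (hP.isLoc.zl_le S hG.char2 hv)

/-- `|V_P| = 4`: `Ω₁(Z(S))` has order 2. -/
theorem eq_of_zc_four {z w : G} (hz : z ∈ zc (S : Subgroup G)) (hz1 : z ≠ 1)
    (hw : w ∈ zc (S : Subgroup G)) (hw1 : w ≠ 1) : w = z := by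
  by_contra hne
  have h1 : zl (S : Subgroup G) P ≤ zc (S : Subgroup G) := by
    intro x hx
    by_cases hx1 : x = 1
    · rw [hx1]; exact one_mem _
    rcases eq_of_card_four hc (zl_sq_four hG hP) (zc_le_zl _ _ hz) hz1 (zc_le_zl _ _ hw) hw1
      (Ne.symm hne) hx hx1 with h | h | h
    · rw [h]; exact hz
    · rw [h]; exact hw
    · rw [h]; exact mul_mem hz hw
  have h2 : zl (S : Subgroup G) P = zc (S : Subgroup G) := le_antisymm h1 (zc_le_zl _ _)
  exact hP.not_zc (h2 ▸ le_normalizer_zl _ _)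

/-- `|V_P| = 4`: `P` is transitive on the involutions of `V_P`. -/
theorem exists_conj_four {z v : G} (hz : z ∈ zc (S : Subgroup G)) (hz1 : z ≠ 1)
    (hv : v ∈ zl (S : Subgroup G) P) (hv1 : v ≠ 1) : ∃ p ∈ P, p * z * p⁻¹ = v := by
  have hzV := zc_le_zl (S : Subgroup G) P hz
  have hconj : ∀ p ∈ P, ∀ w ∈ zl (S : Subgroup G) P, p * w * p⁻¹ ∈ zl (S : Subgroup G) P :=
    fun p hp w hw => (mem_normalizer_iff.1 (le_normalizer_zl _ _ hp) w).1 hw
  have hZ0 := NoFF.LinesPlug.inf_eq_bot S hn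
  obtain ⟨p, hp, hpz⟩ : ∃ p ∈ P, p * z * p⁻¹ ≠ z := by
    by_contra hcon
    push Not at hcon
    apply hz1
    rw [← mem_bot (G := G), ← hZ0]
    refine ⟨hz, mem_centralizer_iff.2 fun p hp => ?_⟩
    exact mul_inv_eq_iff_eq_mul.1 (hcon p hp)
  set b := p * z * p⁻¹ with hb
  have hbV : b ∈ zl (S : Subgroup G) P := hconj p hp z hzV
  have hb1 : b ≠ 1 := by
    intro h
    apply hz1
    exact conj_eq_one_iff.1 (hb ▸ h)
  have hex := fun x hx hx1 => eq_of_card_four (x := x) hc (zl_sq_four hG hP) hzV hz1 hbV hb1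
    (Ne.symm hpz) hx hx1
  by_contra hcon
  push Not at hcon
  have hv : v = z * b := by
    rcases hex v hv hv1 with h | h | h
    · exact absurd (by rw [h]; simp) (hcon 1 P.one_mem)
    · exact absurd h.symm (hcon p hp)
    · exact h
  -- every element of `P` fixes `v`
  have hfix : ∀ r ∈ P, r * v * r⁻¹ = v := by
    intro r hr
    have key : ∀ w ∈ zl (S : Subgroup G) P, w ≠ 1 → (∃ s ∈ P, s * z * s⁻¹ = w) →
        r * w * r⁻¹ = z ∨ r * w * r⁻¹ = b := by
      rintro w hw hw1 ⟨s, hs, rfl⟩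
      rcases hex (r * (s * z * s⁻¹) * r⁻¹) (hconj r hr _ hw) (by
        intro h
        exact hw1 (conj_eq_one_iff.1 h)) with h | h | h
      · exact Or.inl h
      · exact Or.inr h
      · exfalso
        refine hcon (r * s) (P.mul_mem hr hs) ?_
        rw [hv, ← h]
        group
    have h1 := key z hzV hz1 ⟨1, P.one_mem, by simp⟩
    have h2 := key b hbV hb1 ⟨p, hp, rfl⟩
    have hne : r * z * r⁻¹ ≠ r * b * r⁻¹ := by
      intro h
      exact hpz (by simpa using (congrArg (fun t => r⁻¹ * t * r) h).symm)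
    have hcomm : z * b = b * z := by
      have h3 := hP.isLoc.zl_le S hG.char2
      exact zc_comm _ _ (h3 hzV) _ (h3 hbV)
    have e : r * v * r⁻¹ = (r * z * r⁻¹) * (r * b * r⁻¹) := by rw [hv]; group
    rw [e, hv]
    rcases h1 with h1 | h1 <;> rcases h2 with h2 | h2
    · exact absurd (h1.trans h2.symm) hne
    · rw [h1, h2]
    · rw [h1, h2, hcomm]
    · exact absurd (h1.trans h2.symm) hne
  apply hv1
  rw [← mem_bot (G := G), ← NoFF.LinesPlug.inf_oddGen_eq_bot hG.char2 S hP.toIsPar hZ0]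
  refine ⟨‹_›, mem_centralizer_iff.2 fun r hr => ?_⟩
  exact mul_inv_eq_iff_eq_mul.1 (hfix r (oddGen_le P hr))

/-- `|V_P| = 4`: `C_G(Ω₁(Z(S))) = C_G(z)`. -/
theorem mem_CZ_four {z g : G} (hz : z ∈ zc (S : Subgroup G)) (hz1 : z ≠ 1) :
    g ∈ CZ (S : Subgroup G) ↔ g * z = z * g := by
  constructor
  · intro h
    exact (mem_centralizer_iff.1 h z hz).symm
  · intro h
    rw [mem_centralizer_iff]
    intro w hw
    by_cases hw1 : w = 1
    · rw [hw1]; simp
    · rw [eq_of_zc_four hG hP hn hc hz hz1 hw hw1]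
      exact h.symm

/-- **`|V_P| = 4`, `W` abelian: NOFF is automatic** (helper345 #12838, helper690 #12859). -/
theorem Hyp.of_four (hF : Full (S : Subgroup G))
    (hW : WW (S : Subgroup G) P ≤ centralizer (WW (S : Subgroup G) P : Set G)) : Hyp S P := by
  refine Hyp.of_noff hG hF hP hn (zl_le_o2_of_comm hG hP hW) fun g h1 h2 => ?_
  obtain ⟨z, hz, hz1⟩ : ∃ z ∈ zc (S : Subgroup G), z ≠ 1 := by
    obtain ⟨z, hz1⟩ := Subgroup.ne_bot_iff_exists_ne_one.1
      (MinSimple.Basic.zc_ne_bot S.isPGroup' (hG.sylow_ne_bot S))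
    exact ⟨z, z.2, fun h => hz1 (Subtype.ext h)⟩
  have hVn : zl (S : Subgroup G) P ≤ normalizer ((MulAut.conj g • zl (S : Subgroup G) P : Subgroup G) : Set G) := by
    rw [NoFF.Main.normalizer_conj]
    exact h1.trans (NoFF.Basic.conj_le_iff.2 (le_normalizer_zl _ _))
  have hVn' : MulAut.conj g • zl (S : Subgroup G) P ≤ normalizer (zl (S : Subgroup G) P : Set G) :=
    h2.trans (le_normalizer_zl _ _)
  -- commutators are in the intersection
  by_contra hcon
  obtain ⟨v, hv, w, hw, hvw⟩ : ∃ v ∈ zl (S : Subgroup G) P, ∃ w ∈ MulAut.conj g • zl (S : Subgroup G) P,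
      w * v ≠ v * w := by
    by_contra h
    push Not at h
    exact hcon fun v hv => mem_centralizer_iff.2 fun w hw => h v hv w hw
  set r := v * w * v⁻¹ * w⁻¹ with hr
  have hr1 : r ≠ 1 := by
    intro h
    apply hvw
    rw [hr, mul_inv_eq_one] at h
    rw [← mul_inv_eq_iff_eq_mul.1 h]
  have hrV : r ∈ zl (S : Subgroup G) P := by
    have e : r = v * (w * v⁻¹ * w⁻¹) := by rw [hr]; group
    rw [e]
    exact mul_mem hv ((mem_normalizer_iff.1 (hVn' hw) _).1 (inv_mem hv))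
  have hrV' : r ∈ MulAut.conj g • zl (S : Subgroup G) P :=
    mul_mem ((mem_normalizer_iff.1 (hVn hv) _).1 hw) (inv_mem hw)
  obtain ⟨p, hp, hpr⟩ := exists_conj_four hG hP hn hc hz hz1 hrV hr1
  obtain ⟨p', hp', hpr'⟩ := exists_conj_four hG hP hn hc hz hz1 (NoFF.Basic.mem_conj.1 hrV') (by
    intro h
    apply hr1
    have h3 := congrArg (fun t => g * t * g⁻¹) h
    simpa [mul_assoc] using h3)
  have hcC : p⁻¹ * g * p' ∈ CZ (S : Subgroup G) := by
    rw [mem_CZ_four hG hP hn hc hz hz1]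
    have h3 : g * p' * z * p'⁻¹ * g⁻¹ = r := by
      have := congrArg (fun t => g * t * g⁻¹) hpr'
      simpa [mul_assoc] using this
    have h4 : g * p' * z * p'⁻¹ * g⁻¹ = p * z * p⁻¹ := h3.trans hpr.symm
    have h5 := congrArg (fun t => p⁻¹ * t * (g * p')) h4
    simpa [mul_assoc] using h5
  have e1 : MulAut.conj g • zl (S : Subgroup G) P =
      MulAut.conj p • (MulAut.conj (p⁻¹ * g * p') • zl (S : Subgroup G) P) := by
    rw [NoFF.Basic.conj_conj, mul_assoc p⁻¹ g p', mul_inv_cancel_left, ← NoFF.Basic.conj_conj,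
      zl_conj_eq hp']
  have e2 : zl (S : Subgroup G) P = MulAut.conj p • zl (S : Subgroup G) P := (zl_conj_eq hp).symm
  have h6 : MulAut.conj p • zl (S : Subgroup G) P ≤
      centralizer ((MulAut.conj p • (MulAut.conj (p⁻¹ * g * p') • zl (S : Subgroup G) P) : Subgroup G) : Set G) :=
    NoFF.Basic.conj_le_centralizer (NoFF.Basic.comm_mono hW zl_le_WW (conj_zl_le_WW hcC))
  rw [← e1, ← e2] at h6
  exact hcon h6

end four

/-- The leaf `NodeNO3S` gives `Hyp`. -/
theorem Hyp.of (hG : Ctx G) (hF : Full (S : Subgroup G)) (hm : ¬ FF (S : Subgroup G))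
    (hlow : ∀ P : Subgroup G, IsParS (S : Subgroup G) P →
      zl (S : Subgroup G) P ≤ o2 (CZ (S : Subgroup G)))
    (hP : IsParS (S : Subgroup G) P) (hn : NonLoc P (CZ (S : Subgroup G))) : Hyp S P where
  ctx := hG
  full := hF
  star := hP
  nonLoc := hn
  geo := NoFF.LinesPlug.geo hG.char2 S (hG.sylow_ne_bot S) hm (F := {P})
    (Set.singleton_subset_iff.2 hP) (by rintro Q rfl; exact hlow Q hP)

end facts

/-- **The hypotheses of the leaf, with a chosen `P`**: `Hyp` and the hypotheses on all members of `P*(S)`. -/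
structure HypN {G : Type u} [Group G] [Finite G] (S : Sylow 2 G) (P : Subgroup G) : Prop extends Hyp S P where
  noFF : ¬ FF (S : Subgroup G)
  low : ∀ R : Subgroup G, IsParS (S : Subgroup G) R →
    zl (S : Subgroup G) R ≤ o2 (CZ (S : Subgroup G))

section facts

variable {G : Type u} [Group G] [Finite G] {S : Sylow 2 G} {P : Subgroup G}

theorem HypN.of (hG : Ctx G) (hF : Full (S : Subgroup G)) (hm : ¬ FF (S : Subgroup G))
    (hlow : ∀ P : Subgroup G, IsParS (S : Subgroup G) P →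
      zl (S : Subgroup G) P ≤ o2 (CZ (S : Subgroup G)))
    (hP : IsParS (S : Subgroup G) P) (hn : NonLoc P (CZ (S : Subgroup G))) : HypN S P :=
  ⟨Hyp.of hG hF hm hlow hP hn, hm, hlow⟩

variable (h : Hyp S P)
include h

theorem Hyp.ne : (S : Subgroup G) ≠ ⊥ := h.ctx.sylow_ne_bot S

theorem Hyp.zc_ne : zc (S : Subgroup G) ≠ ⊥ := MinSimple.Basic.zc_ne_bot S.isPGroup' h.ne

/-- There is a critical pair. -/
theorem Hyp.exists_crit : ∃ n, 1 ≤ n ∧ ∃ y, CritP (S : Subgroup G) P n 1 y :=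
  h.geo.exists_crit (Set.singleton_nonempty P) h.zc_ne
    fun _ hU h1 h3 => h.nonLoc _ hU (h1 P rfl) h3

omit h in
/-- Every `N_G(Z)`-conjugate of `S` is a `C_G(Z)`-conjugate of `S`. -/
theorem exists_mem_CZ_conj {c : G} (hc : c ∈ normalizer (zc (S : Subgroup G) : Set G)) :
    ∃ d ∈ CZ (S : Subgroup G), MulAut.conj d • (S : Subgroup G) = MulAut.conj c • (S : Subgroup G) := by
  have hS : (S : Subgroup G) ≤ CZ (S : Subgroup G) := le_centralizer_zc _
  have hn := NoFF.LinesPlug.normalizer_le_normalizer_centralizer' _ hc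
  have hS2 : MulAut.conj c • (S : Subgroup G) ≤ CZ (S : Subgroup G) := by
    have h1 := NoFF.Basic.conj_le_iff (g := c) |>.2 hS
    rwa [NoFF.Lines.conj_eq hn] at h1
  have h1 : Cfsg.Agent.ZN.ChoiceSit.Syl (S : Subgroup G) (CZ (S : Subgroup G)) :=
    ⟨hS, S.isPGroup', fun _ _ hT hST => S.is_maximal' hT hST⟩
  have h2 : Cfsg.Agent.ZN.ChoiceSit.Syl (MulAut.conj c • (S : Subgroup G)) (CZ (S : Subgroup G)) :=
    ⟨hS2, (MulAut.conj c • S : Sylow 2 G).isPGroup',
      fun _ _ hT hST => (MulAut.conj c • S : Sylow 2 G).is_maximal' hT hST⟩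
  obtain ⟨d, hd, hdc⟩ := Cfsg.Agent.ZN.ChoiceSit.syl_conj h1 h2
  exact ⟨d, hd, hdc⟩

/-- The geometry with `C = N_G(Z)`. -/
theorem Hyp.geoN : Geo (S : Subgroup G) (zc (S : Subgroup G)) (normalizer (zc (S : Subgroup G) : Set G)) {P} where
  toSys := h.geo.toSys
  CZ := le_rfl
  cen := centralizer_le_normalizer _
  low := by
    intro Q hQ c hc
    obtain ⟨d, hd, hdc⟩ := exists_mem_CZ_conj hc
    rw [← hdc]
    exact h.geo.low Q hQ d hd
  Zsq := h.geo.Zsq

/-- There is a critical pair for `C = N_G(Z)`. -/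
theorem Hyp.exists_critN : ∃ n, 1 ≤ n ∧ ∃ y, CritN (S : Subgroup G) P n 1 y :=
  h.geoN.exists_crit (Set.singleton_nonempty P) h.zc_ne
    fun _ hU h1 h3 => h.nonLoc _ hU (h1 P rfl) ((centralizer_le_normalizer _).trans h3)

/-- `⟨V^{N_G(Z)}⟩` is elementary abelian. -/
theorem Hyp.WN_comm : WN (S : Subgroup G) P ≤ centralizer (WN (S : Subgroup G) P : Set G) :=
  h.geoN.W_comm

theorem Hyp.WN_sq : ∀ w ∈ WN (S : Subgroup G) P, w ^ 2 = 1 := h.geoN.W_sq

omit [Finite G] h in
theorem WW_le_WN : WW (S : Subgroup G) P ≤ WN (S : Subgroup G) P :=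
  W_le fun _ hQ _ hc => line_le hQ (centralizer_le_normalizer _ hc)

/-- `C_Z(P) = 1`. -/
theorem Hyp.inf_eq_bot : zc (S : Subgroup G) ⊓ centralizer (P : Set G) = ⊥ :=
  NoFF.LinesPlug.inf_eq_bot S h.nonLoc

/-- `C_V(O²(P)) = 1`. -/
theorem Hyp.cen : zl (S : Subgroup G) P ⊓ centralizer (oddGen P : Set G) = ⊥ :=
  NoFF.LinesPlug.inf_oddGen_eq_bot h.ctx.char2 S h.star.toIsPar h.inf_eq_bot

/-- `C_S(V) = O₂(P)`. -/
theorem Hyp.inf_centralizer :
    (S : Subgroup G) ⊓ centralizer (zl (S : Subgroup G) P : Set G) = o2 P :=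
  h.star.inf_centralizer S h.ctx.char2

/-- `V ≤ Ω₁(Z(O₂(P)))`. -/
theorem Hyp.zl_le : zl (S : Subgroup G) P ≤ zc (o2 P) := h.star.isLoc.zl_le S h.ctx.char2

/-- `W` is elementary abelian. -/
theorem Hyp.W_comm : WW (S : Subgroup G) P ≤ centralizer (WW (S : Subgroup G) P : Set G) :=
  h.geo.W_comm

theorem Hyp.W_sq : ∀ w ∈ WW (S : Subgroup G) P, w ^ 2 = 1 := h.geo.W_sq

/-- `C_V(O²(P)) = 1`, in the notation of `FrameFF`. -/
theorem Hyp.cv : cv (S : Subgroup G) P = ⊥ := h.cen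

theorem Hyp.free : Free (S : Subgroup G) P := h.cen

end facts

/-! ### Natural modules -/

section nat

variable {G : Type u} [Group G] {F : Type} [Field F] {V P : Subgroup G}

theorem natOver_inj (M : NatOver F P V ⊥) {v w : G} (hv : v ∈ V) (hw : w ∈ V) (h : M.e v = M.e w) : v = w := by
  have h0 : M.e 1 = 0 := (M.ker 1 (one_mem _)).2 (one_mem _)
  have h1 : M.e w⁻¹ = -M.e w := by
    have := M.mul w hw w⁻¹ (inv_mem hw)
    rw [mul_inv_cancel, h0] at this
    exact eq_neg_of_add_eq_zero_right this.symm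
  have h2 : M.e (v * w⁻¹) = 0 := by rw [M.mul v hv _ (inv_mem hw), h1, h, add_neg_cancel]
  have h3 := (M.ker _ (mul_mem hv (inv_mem hw))).1 h2
  rw [mem_bot, mul_inv_eq_one] at h3
  exact h3

/-- From the coordinates of `FrameFF` to a parametrisation. -/
noncomputable def NatP.ofNatOver (hPV : P ≤ normalizer (V : Set G)) (M : NatOver F P V ⊥) : NatP F V P where
  e x := (M.surj x).choose
  e_add x y := by
    apply natOver_inj M (M.surj (x + y)).choose_spec.1
      (mul_mem (M.surj x).choose_spec.1 (M.surj y).choose_spec.1)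
    rw [(M.surj (x + y)).choose_spec.2, M.mul _ (M.surj x).choose_spec.1 _ (M.surj y).choose_spec.1,
      (M.surj x).choose_spec.2, (M.surj y).choose_spec.2]
  e_inj x y hxy := by
    have h1 := (M.surj x).choose_spec.2
    have h2 := (M.surj y).choose_spec.2
    rw [← h1, ← h2]
    exact congrArg M.e hxy
  mem_iff g := by
    constructor
    · intro hg
      refine ⟨M.e g, natOver_inj M (M.surj _).choose_spec.1 hg (M.surj _).choose_spec.2⟩
    · rintro ⟨x, rfl⟩
      exact (M.surj x).choose_spec.1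
  lift A := by
    obtain ⟨g, hg, h1, -⟩ := M.lift A
    refine ⟨g, hg, fun x => ?_⟩
    have hx := (M.surj x).choose_spec
    refine natOver_inj M ((mem_normalizer_iff.1 (hPV hg) _).1 hx.1) (M.surj _).choose_spec.1 ?_
    rw [h1 _ hx.1, hx.2, (M.surj _).choose_spec.2]
  norm g hg h A hA := by
    -- replace `h` by an element of `P`
    obtain ⟨k, hk, hk1, -⟩ := M.lift A
    have hkx : ∀ x, k * (M.surj x).choose * k⁻¹ = (M.surj (ap A x)).choose := by
      intro x
      have hx := (M.surj x).choose_spec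
      refine natOver_inj M ((mem_normalizer_iff.1 (hPV hk) _).1 hx.1) (M.surj _).choose_spec.1 ?_
      rw [hk1 _ hx.1, hx.2, (M.surj _).choose_spec.2]
    obtain ⟨B, hB⟩ := M.norm g hg k hk A hk1
    refine ⟨B, fun x => ?_⟩
    have hx := (M.surj x).choose_spec
    have e1 : ∀ t : G, g * t * g⁻¹ * (M.surj x).choose * (g * t * g⁻¹)⁻¹ =
        g * (t * (g⁻¹ * (M.surj x).choose * g) * t⁻¹) * g⁻¹ := fun t => by group
    have hgx : g⁻¹ * (M.surj x).choose * g ∈ V := by
      have := (mem_normalizer_iff.1 (inv_mem (hPV hg)) (M.surj x).choose).1 hx.1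
      rwa [inv_inv] at this
    have e2 : g⁻¹ * (M.surj x).choose * g = (M.surj (M.e (g⁻¹ * (M.surj x).choose * g))).choose :=
      natOver_inj M hgx (M.surj _).choose_spec.1 (M.surj _).choose_spec.2.symm
    have h3 : g * h * g⁻¹ * (M.surj x).choose * (g * h * g⁻¹)⁻¹ =
        g * k * g⁻¹ * (M.surj x).choose * (g * k * g⁻¹)⁻¹ := by
      rw [e1 h, e1 k, e2, hA, hkx]
    rw [h3]
    refine natOver_inj M ?_ (M.surj _).choose_spec.1 ?_
    · have hgk : g * k * g⁻¹ ∈ P := mul_mem (mul_mem hg hk) (inv_mem hg)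
      exact (mem_normalizer_iff.1 (hPV hgk) _).1 hx.1
    · rw [hB _ hx.1, hx.2, (M.surj _).choose_spec.2]

/-- `NatMod`, if the `SL₂(F)` is normal in `N_G(V) / C_G(V)`. -/
def NatP.natMod (M : NatP F V P) (hn : ∀ g ∈ normalizer (V : Set G), ∀ (h : G)
    (A : Matrix.SpecialLinearGroup (Fin 2) F), (∀ x, h * M.e x * h⁻¹ = M.e (ap A x)) →
      ∃ B : Matrix.SpecialLinearGroup (Fin 2) F, ∀ x, g * h * g⁻¹ * M.e x * (g * h * g⁻¹)⁻¹ = M.e (ap B x)) :
    NatMod F V where
  e := M.e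
  e_add := M.e_add
  e_inj := M.e_inj
  mem_iff := M.mem_iff
  lift A := by
    obtain ⟨g, -, hg⟩ := M.lift A
    exact ⟨g, hg⟩
  norm := hn

theorem NatP.card (M : NatP F V P) : Nat.card V = Nat.card F ^ 2 := by
  have h1 : Nat.card (Fin 2 → F) = Nat.card V := by
    refine Nat.card_congr (Equiv.ofBijective (fun x => ⟨M.e x, (M.mem_iff _).2 ⟨x, rfl⟩⟩) ⟨?_, ?_⟩)
    · intro x y h
      exact M.e_inj (congrArg Subtype.val h)
    · rintro ⟨v, hv⟩
      obtain ⟨x, rfl⟩ := (M.mem_iff v).1 hv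
      exact ⟨x, rfl⟩
  rw [← h1]
  simp [Nat.card_fun]

end nat

section nat2

variable {G : Type u} [Group G] [Finite G] {S : Sylow 2 G} {P : Subgroup G}

/-- Under `Hyp`, `Single S P` means: `V_P` is natural. -/
theorem Hyp.exists_natP (h : Hyp S P) (hs : Single (S : Subgroup G) P) :
    ∃ (F : Type) (_ : Field F) (_ : Finite F) (_ : CharP F 2), Nonempty (NatP F (zl (S : Subgroup G) P) P) := by
  obtain ⟨F, i1, i2, i3, ⟨M⟩⟩ := hs
  rw [h.cv] at M
  exact ⟨F, i1, i2, i3, ⟨NatP.ofNatOver (le_normalizer_zl _ _) M⟩⟩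

/-- `FFMod` with indices. -/
theorem ffMod_iff : FFMod (S : Subgroup G) P ↔ ∃ A : Subgroup G, A ≤ S ∧
    ¬ A ≤ centralizer (zl (S : Subgroup G) P : Set G) ∧
    (∀ a ∈ A, a ^ 2 ∈ centralizer (zl (S : Subgroup G) P : Set G)) ∧
    (∀ a ∈ A, ∀ b ∈ A, a * b * a⁻¹ * b⁻¹ ∈ centralizer (zl (S : Subgroup G) P : Set G)) ∧
    (centralizer (A : Set G)).relIndex (zl (S : Subgroup G) P) ≤
      (centralizer (zl (S : Subgroup G) P : Set G)).relIndex A := by
  constructor
  · rintro ⟨A, hA, h⟩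
    exact ⟨A, hA, h.ne, h.sq, h.comm, FFThm.relIndex_le_iff.1 h.le⟩
  · rintro ⟨A, hA, h1, h2, h3, h4⟩
    exact ⟨A, hA, ⟨⟨h2, h3⟩, h1, FFThm.relIndex_le_iff.2 h4⟩⟩

/-- An offender gives `FFMod`. -/
theorem FFMod.of_off {A : Subgroup G} (hA : A ≤ (S : Subgroup G))
    (h : FFThm.Off (zl (S : Subgroup G) P) A) : FFMod (S : Subgroup G) P := ⟨A, hA, h.offM⟩

theorem Hyp.syl (h : Hyp S P) : Cfsg.Agent.ZN.ChoiceSit.Syl (S : Subgroup G) P :=
  ⟨h.star.isLoc.le, S.isPGroup', fun _ _ hT hST => S.is_maximal' hT hST⟩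

/-- The FF theorem under `Hyp`. -/
theorem Hyp.ff (h : Hyp S P) (hFF : FFThm.StmtM.{u}) (h1 : FFMod (S : Subgroup G) P) :
    FFThm.NoOverM (zl (S : Subgroup G) P) P ∧ FFThm.ConclM (S : Subgroup G) P := by
  obtain ⟨A, hA, h2⟩ := h1
  exact hFF G (S : Subgroup G) P h.syl h.star.toIsMinPar (h.star.isLoc.char2 S h.ctx.char2)
    ⟨A, hA.trans h.star.isLoc.le, h2⟩

end nat2

/-! ### `J(S) ≰ O₂(P)` -/

/-- `HypN` and `J(S) ≰ O₂(P)`. -/
structure HypJ {G : Type u} [Group G] [Finite G] (S : Sylow 2 G) (P : Subgroup G) : Prop extends HypN S P where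
  jnot : ¬ jj (S : Subgroup G) ≤ o2 P

/-- All `P ∈ P*(S)` with `⟨P, C_G(Z)⟩` nonlocal have `J(S) ≤ O₂(P)` and `|V_P| ≠ 4`; there is one. -/
structure HypC {G : Type u} [Group G] [Finite G] (S : Sylow 2 G) : Prop where
  ctx : Ctx G
  full : Full (S : Subgroup G)
  noFF : ¬ FF (S : Subgroup G)
  low : ∀ R : Subgroup G, IsParS (S : Subgroup G) R →
    zl (S : Subgroup G) R ≤ o2 (CZ (S : Subgroup G))
  ex : ∃ P : Subgroup G, IsParS (S : Subgroup G) P ∧ NonLoc P (CZ (S : Subgroup G))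
  four : ∀ P : Subgroup G, IsParS (S : Subgroup G) P → NonLoc P (CZ (S : Subgroup G)) →
    Nat.card (zl (S : Subgroup G) P) ≠ 4
  jle : ∀ P : Subgroup G, IsParS (S : Subgroup G) P → NonLoc P (CZ (S : Subgroup G)) →
    jj (S : Subgroup G) ≤ o2 P

/-- `P` is the only line type: `V_R = V_P` and `C_Z(R) = 1` for all `R ∈ P*(S)` (helper44, LEMMA UNIQ). -/
structure Uniq {G : Type u} [Group G] (S P : Subgroup G) : Prop where
  eq : ∀ R : Subgroup G, IsParS S R → zl S R = zl S P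
  cen : ∀ R : Subgroup G, IsParS S R → zc S ⊓ centralizer (R : Set G) = ⊥

section J

variable {G : Type u} [Group G] [Finite G] {S : Sylow 2 G} {P : Subgroup G}

theorem HypC.hypN (h : HypC S) (hP : IsParS (S : Subgroup G) P) (hn : NonLoc P (CZ (S : Subgroup G))) : HypN S P :=
  HypN.of h.ctx h.full h.noFF h.low hP hn

theorem Hyp.elem (h : Hyp S P) : IsElementaryAbelian 2 (zl (S : Subgroup G) P) := by
  have h1 := h.zl_le
  exact ⟨⟨⟨fun a b => Subtype.ext (zc_comm _ _ (h1 a.2) _ (h1 b.2))⟩⟩, fun a ha => zc_sq _ _ (h1 ha)⟩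

theorem Hyp.V_le_S (h : Hyp S P) : zl (S : Subgroup G) P ≤ (S : Subgroup G) :=
  (h.zl_le.trans (zc_le _)).trans (h.star.isLoc.o2_le S)

/-- `J(S) ≰ O₂(P)`: some `A ∈ A(S)` is an offender on `V`. -/
theorem HypJ.exists_off (h : HypJ S P) :
    ∃ A ∈ Cfsg.Agent.ZN.ChoiceBase.AA (S : Subgroup G), FFThm.Off (zl (S : Subgroup G) P) A := by
  by_contra hcon
  push Not at hcon
  apply h.jnot
  rw [Cfsg.Agent.ZN.ChoiceBase.jj_eq]
  refine sSup_le fun A hA => ?_
  by_contra hAc
  refine hcon A hA (FFThm.off_of_AA h.toHyp.elem h.toHyp.V_le_S hA fun hc => hAc ?_)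
  rw [← h.toHyp.inf_centralizer]
  exact le_inf hA.2.1 hc

/-- `J(S) ≰ O₂(P)`: the FF theorem applies. -/
theorem HypJ.ff (h : HypJ S P) (hFF : FFThm.Stmt.{u}) :
    FFThm.NoOver (zl (S : Subgroup G) P) P ∧ FFThm.Concl (S : Subgroup G) P := by
  obtain ⟨A, hA, h2⟩ := h.exists_off
  exact hFF G (S : Subgroup G) P h.toHyp.syl h.star.toIsMinPar (h.star.isLoc.char2 S h.ctx.char2)
    ⟨A, hA.2.1.trans h.star.isLoc.le, h2⟩

theorem HypJ.ffMod (h : HypJ S P) : FFMod (S : Subgroup G) P := by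
  obtain ⟨A, hA, h2⟩ := h.exists_off
  exact FFMod.of_off hA.2.1 h2

/-- `V` not an FF-module: `J(S) ≤ O₂(P)`. -/
theorem Hyp.jj_le_of_not_ffMod (h : HypN S P) (hf : ¬ FFMod (S : Subgroup G) P) :
    jj (S : Subgroup G) ≤ o2 P := by
  by_contra hj
  exact hf (HypJ.ffMod ⟨h, hj⟩)

/-- (NS) `N_G(S) ≤ N_G(V)`. -/
theorem Uniq.ns (h : Uniq (S : Subgroup G) P) (hP : IsParS (S : Subgroup G) P) :
    normalizer ((S : Subgroup G) : Set G) ≤ normalizer (zl (S : Subgroup G) P : Set G) := by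
  intro n hn
  have h1 : IsParS ((S : Subgroup G).map (MulAut.conj n).toMonoidHom) (P.map (MulAut.conj n).toMonoidHom) :=
    hP.map (MulAut.conj n)
  have h2 : (S : Subgroup G).map (MulAut.conj n).toMonoidHom = (S : Subgroup G) :=
    Cfsg.Agent.ZN.ChoiceBase.cj_eq_of_mem_normalizer hn
  have h3 : zl ((S : Subgroup G).map (MulAut.conj n).toMonoidHom) (P.map (MulAut.conj n).toMonoidHom) =
      (zl (S : Subgroup G) P).map (MulAut.conj n).toMonoidHom :=
    zl_map _ (MulAut.conj n).injective _ _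
  rw [h2] at h1 h3
  rw [h.eq _ h1] at h3
  rw [Cfsg.Agent.ZN.ChoiceBase.mem_normalizer_iff_cj]
  exact h3.symm

/-- (TI) `C_G(z) ≤ N_G(Z)` for `1 ≠ z ∈ Z`. -/
theorem Uniq.ti (h : Uniq (S : Subgroup G) P) {z : G}
    (hz : z ∈ zc (S : Subgroup G)) (hz1 : z ≠ 1) :
    centralizer ({z} : Set G) ≤ normalizer (zc (S : Subgroup G) : Set G) := by
  have hS : (S : Subgroup G) ≤ centralizer ({z} : Set G) := by
    intro s hs
    rw [mem_centralizer_singleton_iff]
    exact (mem_centralizer_iff.1 (le_centralizer_zc _ hs) z hz).symm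
  refine MinSimple.MinParabolic.le_of_forall hS ?_ fun R hR hRX => ?_
  · exact inf_le_right.trans (normalizer_le_normalizer_zc _)
  · by_contra hcon
    have hz2 : z ∈ o2 R := by
      have h1 : zpowers z ≤ R := by
        rw [zpowers_le]
        exact hR.le (zc_le _ hz)
      have h2 : IsPGroup 2 (zpowers z) := S.isPGroup'.to_le ((zpowers_le).2 (zc_le _ hz))
      have h3 : R ≤ normalizer ((zpowers z : Subgroup G) : Set G) := by
        refine le_trans (fun r hr => ?_) (centralizer_le_normalizer _)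
        rw [mem_centralizer_iff]
        rintro _ ⟨k, rfl⟩
        have h4 : Commute r z := mem_centralizer_singleton_iff.1 (hRX hr)
        exact (h4.zpow_right k).eq.symm
      exact MinSimple.VModule.le_o2 h1 h2 h3 (mem_zpowers z)
    have hR1 : IsParS (S : Subgroup G) R := ⟨⟨hR, fun h0 => hz1 (by rw [h0] at hz2; exact hz2)⟩, hcon⟩
    have h2 : z ∈ zc (S : Subgroup G) ⊓ centralizer (R : Set G) := by
      refine ⟨hz, mem_centralizer_iff.2 fun r hr => ?_⟩
      exact (mem_centralizer_singleton_iff.1 (hRX hr))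
    rw [h.cen R hR1] at h2
    exact hz1 h2

end J

end Cfsg.Agent.Omega.NO3S
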