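import Cfsg.Agent.Mrg.Omega.NoFF.ThmJ
import Cfsg.Agent.Mrg.Omega.NO3S.Basic
import Cfsg.Agent.Mrg.Omega.NatPair.Pair


/-!
# NO-3S, natural lines: the hypotheses `PL S P V Z` from the frame

* `exists_tv` : `S` centralises the line `F w`: every `s ∈ S` acts as the transvection `x ↦ x + a det(w, x) w`;
* `pl_of_nat` : `V` natural for `P` (`NatP`), `Z = Ω₁(Z(S))`, `|Z| = |F|`, TI and `ws V Z` abelian give `PL S P V Z`;
* `ws_eq` : `ws V Z = WW S P` if `N_G(S) ≤ N_G(V)`;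
* `HypPL.of_uniq` : from `Hyp S P`, `Uniq S P`; `pl_four` : from `Hyp S P`, `|V_P| = 4`;
* `omQ_of_jnot` : (T6) from `J(S) ≰ O₂(P)`.
-/

set_option autoImplicit false
set_option linter.unusedSectionVars false
set_option maxHeartbeats 400000

namespace Cfsg.Agent.Omega.NO3S.PT

open Subgroup Cfsg.Agent.Omega.NatPair Cfsg.Agent.Lib.SL2Mat
open scoped Pointwise

section nat

variable {F : Type*} [Field F]

theorem dt_ap (B : Matrix.SpecialLinearGroup (Fin 2) F) (x y : Fin 2 → F) : dt (ap B x) (ap B y) = dt x y := by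
  unfold dt
  rw [ap_zero', ap_zero', ap_one', ap_one']
  linear_combination (x 0 * y 1 - x 1 * y 0) * det_eq B

/-- the transvection `x ↦ x + t det(w, x) w` -/
def tv (w : Fin 2 → F) (t : F) : Matrix.SpecialLinearGroup (Fin 2) F :=
  mk (1 - t * w 0 * w 1) (t * w 0 * w 0) (-(t * w 1 * w 1)) (1 + t * w 0 * w 1) (by ring)

theorem ap_tv (w x : Fin 2 → F) (t : F) : ap (tv w t) x = x + (t * dt w x) • w := by
  apply ext2
  · rw [ap_zero', Pi.add_apply, Pi.smul_apply, smul_eq_mul]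
    have e0 : ent (tv w t) 0 0 = 1 - t * w 0 * w 1 := rfl
    have e1 : ent (tv w t) 0 1 = t * w 0 * w 0 := rfl
    rw [e0, e1, dt]
    ring
  · rw [ap_one', Pi.add_apply, Pi.smul_apply, smul_eq_mul]
    have e0 : ent (tv w t) 1 0 = -(t * w 1 * w 1) := rfl
    have e1 : ent (tv w t) 1 1 = 1 + t * w 0 * w 1 := rfl
    rw [e0, e1, dt]
    ring

theorem dt_self (w : Fin 2 → F) : dt w w = 0 := by unfold dt; ring

theorem ap_tv_self (w : Fin 2 → F) (t : F) : ap (tv w t) w = w := by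
  rw [ap_tv, dt_self, mul_zero, zero_smul, add_zero]

theorem exists_dt {w : Fin 2 → F} (hw : w ≠ 0) : ∃ x, dt w x = 1 := by
  obtain ⟨D, hD⟩ := exists_ap_e hw
  refine ⟨ap D ![0, 1], ?_⟩
  rw [← hD, dt_ap]
  simp [dt]

variable {L : Type*} [Group L] [Finite L] [Finite F] [CharP F 2] {V : Subgroup L} (M : NatMod F V) {S : Sylow 2 L}
  (hS : (S : Subgroup L) ≤ normalizer (V : Set L)) {w : Fin 2 → F} (hw : w ≠ 0)
  (hSw : ∀ s ∈ (S : Subgroup L), ∀ c : F, s * M.e (c • w) = M.e (c • w) * s)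
include hS hw hSw

theorem exists_tv {s : L} (hs : s ∈ (S : Subgroup L)) : ∃ a : F, ∀ x, M.act s x = x + (a * dt w x) • w := by
  have hsV := hS hs
  obtain ⟨σ, hσ⟩ := M.exists_semi hsV
  have hw1 : ∀ c : F, M.act s (c • w) = c • w := fun c => (M.commute_e hsV).1 (hSw s hs c)
  have hww : M.act s w = w := by have := hw1 1; rwa [one_smul] at this
  have hσ1 : ∀ c, σ c = c := by
    intro c
    have h1 := hσ c w
    rw [hw1, hww] at h1
    exact (smul_left_injective F hw h1).symm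
  have hlin : ∀ (c : F) x, M.act s (c • x) = c • M.act s x := fun c x => by rw [hσ, hσ1]
  obtain ⟨x0, hx0⟩ := exists_dt hw
  have hx0' : dt w x0 ≠ 0 := by rw [hx0]; exact one_ne_zero
  set γ := dt w (M.act s x0) with hγ
  have key : ∀ y, dt w (M.act s y) = γ * dt w y := by
    intro y
    obtain ⟨a, b, rfl⟩ := exists_comb hx0' y
    rw [M.act_add hsV, hlin, hlin, hww, dt_add, dt_add, dt_smul, dt_smul, dt_smul, dt_self, hx0, ← hγ]
    ring
  have hpow : ∀ n : ℕ, dt w (M.act (s ^ n) x0) = γ ^ n := by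
    intro n
    induction n with
    | zero => rw [pow_zero, pow_zero, M.act_one, hx0]
    | succ n ih => rw [pow_succ', M.act_mul hsV (pow_mem hsV n), key, ih, pow_succ']
  have hγ1 : γ = 1 := by
    obtain ⟨n, hn⟩ := S.isPGroup' ⟨s, hs⟩
    have hn' : s ^ 2 ^ n = 1 := congrArg Subtype.val hn
    have h1 := hpow (2 ^ n)
    rw [hn', M.act_one, hx0] at h1
    exact eq_one_of_pow h1.symm
  have h1 : dt w (M.act s x0 - x0) = 0 := by
    have h2 : dt w (M.act s x0 - x0) = dt w (M.act s x0) - dt w x0 := by unfold dt; simp only [Pi.sub_apply]; ring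
    rw [h2, ← hγ, hγ1, hx0, sub_self]
  obtain ⟨a, ha⟩ := exists_smul_of_dt hw h1
  refine ⟨a, fun y => ?_⟩
  obtain ⟨α, β, rfl⟩ := exists_comb hx0' y
  have h2 : M.act s x0 = x0 + a • w := by rw [← ha]; abel
  rw [M.act_add hsV, hlin, hlin, hww, h2, dt_add, dt_smul, dt_smul, dt_self, hx0]
  rw [smul_add, smul_smul]
  simp only [mul_zero, mul_one, zero_add]
  rw [mul_comm β a]
  abel

end nat

universe u

variable {G : Type u} [Group G]

/-- `NatP` as a `NatMod` inside `P` -/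
def toMod {F : Type*} [Field F] {V P : Subgroup G} (M : NatP F V P) (hVP : V ≤ P) : NatMod F (V.subgroupOf P) where
  e x := ⟨M.e x, hVP ((M.mem_iff _).2 ⟨x, rfl⟩)⟩
  e_add x y := Subtype.ext (M.e_add x y)
  e_inj x y h := M.e_inj (congrArg Subtype.val h)
  mem_iff g := by
    rw [mem_subgroupOf, M.mem_iff]
    exact ⟨fun ⟨x, hx⟩ => ⟨x, Subtype.ext hx⟩, fun ⟨x, hx⟩ => ⟨x, congrArg Subtype.val hx⟩⟩
  lift A := by
    obtain ⟨g, hg, h⟩ := M.lift A
    exact ⟨⟨g, hg⟩, fun x => Subtype.ext (h x)⟩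
  norm g _ h A hA := by
    obtain ⟨B, hB⟩ := M.norm g g.2 h A fun x => congrArg Subtype.val (hA x)
    exact ⟨B, fun x => Subtype.ext (hB x)⟩

theorem toMod_e {F : Type*} [Field F] {V P : Subgroup G} (M : NatP F V P) (hVP : V ≤ P) (x : Fin 2 → F) :
    (((toMod M hVP).e x : P) : G) = M.e x := rfl

section

variable [Finite G] {S : Sylow 2 G} {P V Z : Subgroup G} {F : Type*} [Field F] [Finite F] [CharP F 2]

/-- **`PL` from a natural module.** -/
theorem pl_of_nat (SP : (S : Subgroup G) ≤ P) (PN : P ≤ normalizer (V : Set G)) (VS : V ≤ (S : Subgroup G))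
    (ZV : Z ≤ V) (cen : ∀ z ∈ Z, ∀ s ∈ (S : Subgroup G), s * z = z * s)
    (omega : ∀ x ∈ (S : Subgroup G), x * x = 1 → (∀ s ∈ (S : Subgroup G), s * x = x * s) → x ∈ Z)
    (M : NatP F V P) (hq : Nat.card Z = Nat.card F)
    (Wcomm : (∀ v ∈ V, v ≠ 1 → ∃ p ∈ P, v ∈ cj p Z) → ws V Z ≤ centralizer ((ws V Z : Subgroup G) : Set G))
    (ti : ∀ z ∈ Z, z ≠ 1 → ∀ g : G, g * z = z * g → g ∈ normalizer (Z : Set G)) : PL S P V Z := by
  have : Fact (Nat.Prime 2) := ⟨Nat.prime_two⟩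
  have hVP : V ≤ P := VS.trans SP
  set N := toMod M hVP with hN
  have hVn : ∀ g : P, g ∈ normalizer ((V.subgroupOf P : Subgroup P) : Set P) := by
    intro g
    rw [mem_normalizer_iff]
    intro x
    rw [mem_subgroupOf, mem_subgroupOf]
    exact mem_normalizer_iff.1 (PN g.2) x
  have hact : ∀ (g : P) (x : Fin 2 → F), (g : G) * M.e x * (g : G)⁻¹ = M.e (N.act g x) := fun g x =>
    congrArg Subtype.val (N.e_act (hVn g) x).symm
  set T : Sylow 2 P := S.subtype SP with hT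
  have hTV : (T : Subgroup P) ≤ normalizer ((V.subgroupOf P : Subgroup P) : Set P) := fun g _ => hVn g
  -- the line
  obtain ⟨w, hw, hTw⟩ : ∃ w : Fin 2 → F, w ≠ 0 ∧ (T : Subgroup P) ≤ normalizer ((N.line w : Subgroup P) : Set P) := by
    have hw0 : (![1, 0] : Fin 2 → F) ≠ 0 := fun h => by
      have := congrFun h 0
      simp at this
    obtain ⟨T₁, -, h1⟩ := N.exists_sylow T hTV hw0
    obtain ⟨g, hg⟩ := MulAction.exists_smul_eq P T₁ T
    refine ⟨N.act g ![1, 0], N.act_ne_zero (hVn g) hw0, ?_⟩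
    intro s hs
    rw [← hg] at hs
    have h2 : g⁻¹ * s * g ∈ (T₁ : Subgroup P) := mem_cj.1 hs
    rw [← N.cj_line (hVn g), ← NatPair.cj_eq_iff, ← NatPair.cj_mul]
    have h3 : s * g = g * (g⁻¹ * s * g) := by group
    rw [h3, NatPair.cj_mul, NatPair.cj_eq_iff.2 (h1 h2)]
  have hZl : ∀ z : G, z ∈ Z ↔ ∃ c : F, M.e (c • w) = z := by
    have h1 : Z.subgroupOf P ≤ N.line w := by
      intro z hz
      rw [mem_subgroupOf] at hz
      refine N.cent_le_of_sylow T hTV hw hTw ⟨mem_centralizer_iff.2 fun s hs => ?_, mem_subgroupOf.2 (ZV hz)⟩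
      exact Subtype.ext (cen z hz s (mem_subgroupOf.1 hs))
    have h2 : Nat.card (N.line w) = Nat.card (Z.subgroupOf P) := by
      rw [N.card_line hw, ← hq]
      exact Nat.card_congr (subgroupOfEquivOfLe (ZV.trans hVP)).toEquiv.symm
    have h3 : Z.subgroupOf P = N.line w := Subgroup.eq_of_le_of_card_ge h1 h2.le
    intro z
    constructor
    · intro hz
      have h4 : (⟨z, hVP (ZV hz)⟩ : P) ∈ N.line w := by rw [← h3]; exact mem_subgroupOf.2 hz
      obtain ⟨c, hc⟩ := h4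
      exact ⟨c, congrArg Subtype.val hc⟩
    · rintro ⟨c, rfl⟩
      have h4 : N.e (c • w) ∈ Z.subgroupOf P := by rw [h3]; exact ⟨c, rfl⟩
      exact mem_subgroupOf.1 h4
  have hSw : ∀ s ∈ (T : Subgroup P), ∀ c : F, s * N.e (c • w) = N.e (c • w) * s := by
    intro s hs c
    exact Subtype.ext (cen _ ((hZl _).2 ⟨c, rfl⟩) s (mem_subgroupOf.1 hs))
  have hs1 : ∀ s ∈ (S : Subgroup G), ∃ a : F, ∀ x, s * M.e x * s⁻¹ = M.e (x + (a * dt w x) • w) := by
    intro s hs
    obtain ⟨a, ha⟩ := exists_tv N hTV hw hSw (s := ⟨s, SP hs⟩) (mem_subgroupOf.2 hs)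
    refine ⟨a, fun x => ?_⟩
    rw [← ha]
    exact hact ⟨s, SP hs⟩ x
  have hfull : ∀ t : F, ∃ s ∈ (S : Subgroup G), ∀ x, s * M.e x * s⁻¹ = M.e (x + (t * dt w x) • w) := by
    intro t
    obtain ⟨s, hs, hsB⟩ := N.full_of_sylow T hTV hw hTw (ap_tv_self w t)
    refine ⟨s, mem_subgroupOf.1 hs, fun x => ?_⟩
    have h1 := congrArg Subtype.val (hsB x)
    rw [ap_tv] at h1
    exact h1
  have e_zero : M.e 0 = 1 := by
    have := M.e_add 0 0
    rw [add_zero] at this
    exact left_eq_mul.1 this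
  have e_neg : ∀ x, (M.e x)⁻¹ = M.e (-x) := fun x => by
    rw [inv_eq_iff_mul_eq_one, ← M.e_add, add_neg_cancel, e_zero]
  have hdt : ∀ x, M.e x ∈ Z ↔ dt w x = 0 := by
    intro x
    rw [hZl]
    constructor
    · rintro ⟨c, hc⟩
      rw [← M.e_inj hc, dt_smul, dt_self, mul_zero]
    · intro h1
      obtain ⟨c, rfl⟩ := exists_smul_of_dt hw h1
      exact ⟨c, rfl⟩
  have hcom : ∀ s : G, ∀ a : F, (∀ x, s * M.e x * s⁻¹ = M.e (x + (a * dt w x) • w)) → ∀ x, dt w x ≠ 0 →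
      (s * M.e x = M.e x * s ↔ a = 0) := by
    intro s a ha x hx
    rw [← mul_inv_eq_iff_eq_mul, ha, M.e_inj.eq_iff, add_eq_left]
    constructor
    · intro h1
      rcases smul_eq_zero.1 h1 with h2 | h2
      · exact (mul_eq_zero.1 h2).resolve_right hx
      · exact absurd h2 hw
    · rintro rfl
      rw [zero_mul, zero_smul]
  have hcV : ∀ s : G, ∀ a : F, (∀ x, s * M.e x * s⁻¹ = M.e (x + (a * dt w x) • w)) →
      (s ∈ centralizer (V : Set G) ↔ a = 0) := by
    intro s a ha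
    obtain ⟨x0, hx0⟩ := exists_dt hw
    have hx0' : dt w x0 ≠ 0 := by rw [hx0]; exact one_ne_zero
    constructor
    · intro h1
      exact (hcom s a ha x0 hx0').1 (mem_centralizer_iff.1 h1 _ ((M.mem_iff _).2 ⟨x0, rfl⟩)).symm
    · rintro rfl
      rw [mem_centralizer_iff]
      intro v hv
      obtain ⟨x, rfl⟩ := (M.mem_iff v).1 hv
      have h1 := ha x
      rw [zero_mul, zero_smul, add_zero, mul_inv_eq_iff_eq_mul] at h1
      exact h1.symm
  have hpart : ∀ v ∈ V, v ≠ 1 → ∃ p ∈ P, v ∈ cj p Z := by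
    intro v hv hv1
    obtain ⟨x, rfl⟩ := (M.mem_iff v).1 hv
    have hx : x ≠ 0 := fun h1 => hv1 (by rw [h1, e_zero])
    obtain ⟨A, hA⟩ := exists_ap hw hx
    obtain ⟨g, hg, hgA⟩ := M.lift A
    refine ⟨g, hg, ?_⟩
    rw [← hA, ← hgA]
    exact conj_mem_cj ((hdt w).2 (dt_self w))
  refine
    { SP := SP, PN := PN, ZV := ZV, VS := VS, cen := cen, omega := omega, Wcomm := Wcomm hpart, ti := ti
      part := hpart
      Zne := ?_, Vsq := ?_, act := ?_, free := ?_, full := ?_, torus := ?_, card := ?_ }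
  · intro h1
    rw [h1, card_bot] at hq
    exact absurd hq (Finite.one_lt_card (α := F)).ne
  · intro v hv
    obtain ⟨x, rfl⟩ := (M.mem_iff v).1 hv
    rw [← M.e_add, show x + x = 0 from funext fun i => CharTwo.add_self_eq_zero (x i), e_zero]
  · intro s hs v hv
    obtain ⟨a, ha⟩ := hs1 s hs
    obtain ⟨x, rfl⟩ := (M.mem_iff v).1 hv
    rw [ha, e_neg, ← M.e_add]
    have h1 : x + (a * dt w x) • w + -x = (a * dt w x) • w := by abel
    rw [h1, hZl]
    exact ⟨_, rfl⟩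
  · intro s hs v hv hvZ hsv v' hv'
    obtain ⟨a, ha⟩ := hs1 s hs
    obtain ⟨x, rfl⟩ := (M.mem_iff v).1 hv
    have h1 := (hcom s a ha x (fun h2 => hvZ ((hdt x).2 h2))).1 hsv
    exact (mem_centralizer_iff.1 ((hcV s a ha).2 h1) v' hv').symm
  · intro v hv hvZ z hz
    obtain ⟨x, rfl⟩ := (M.mem_iff v).1 hv
    obtain ⟨c, rfl⟩ := (hZl z).1 hz
    have hx : dt w x ≠ 0 := fun h2 => hvZ ((hdt x).2 h2)
    obtain ⟨s, hs, hsx⟩ := hfull (c / dt w x)
    refine ⟨s, hs, ?_⟩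
    rw [hsx, e_neg, ← M.e_add, div_mul_cancel₀ _ hx]
    congr 1
    abel
  · intro s hs t ht hsV htV
    obtain ⟨a, ha⟩ := hs1 s hs
    obtain ⟨b, hb⟩ := hs1 t ht
    have ha0 : a ≠ 0 := fun h1 => hsV ((hcV s a ha).2 h1)
    have hb0 : b ≠ 0 := fun h1 => htV ((hcV t b hb).2 h1)
    -- a square root of `b / a`
    obtain ⟨c, hc⟩ : ∃ c : F, c ^ 2 = b / a := by
      have h1 : Function.Surjective (frobenius F 2) := Finite.surjective_of_injective (frobenius_inj F 2)
      obtain ⟨c, hc⟩ := h1 (b / a)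
      exact ⟨c, hc⟩
    have hc0 : c ≠ 0 := by
      rintro rfl
      rw [zero_pow two_ne_zero] at hc
      exact (div_ne_zero hb0 ha0) hc.symm
    obtain ⟨k, B, hkB, hBw⟩ := N.exists_torus hw hc0
    have hk : ∀ x, (k : G) * M.e x * (k : G)⁻¹ = M.e (ap B x) := fun x => congrArg Subtype.val (hkB x)
    have hk' : ∀ x, (k : G)⁻¹ * M.e x * (k : G) = M.e (ap B⁻¹ x) := by
      intro x
      have h1 := hk (ap B⁻¹ x)
      rw [ap_ap_inv] at h1
      rw [← h1]; group
    refine ⟨k, k.2, ?_, ?_⟩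
    · have key : ∀ z : G, z ∈ Z → ((k : G) * z * (k : G)⁻¹ ∈ Z ∧ (k : G)⁻¹ * z * (k : G) ∈ Z) := by
        intro z hz
        obtain ⟨d, rfl⟩ := (hZl z).1 hz
        refine ⟨?_, ?_⟩
        · rw [hk, ap_smul, hBw, hZl]
          exact ⟨d * c, by rw [mul_smul]⟩
        · rw [hk', ap_smul]
          have h1 : ap B⁻¹ w = c⁻¹ • w := by
            have h2 : ap B⁻¹ (ap B w) = c • ap B⁻¹ w := by rw [hBw, ap_smul]
            rw [ap_inv_ap] at h2
            rw [h2, smul_smul, inv_mul_cancel₀ hc0, one_smul]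
            rw [← h2]
          rw [h1, hZl]
          exact ⟨d * c⁻¹, by rw [mul_smul]⟩
      rw [mem_normalizer_iff]
      intro z
      refine ⟨fun hz => (key z hz).1, fun hz => ?_⟩
      have h1 := (key _ hz).2
      have h2 : (k : G)⁻¹ * ((k : G) * z * (k : G)⁻¹) * (k : G) = z := by group
      rwa [h2] at h1
    · -- `k s k⁻¹` acts as `t`
      have h1 : ∀ x, (k * s * (k : G)⁻¹) * M.e x * (k * s * (k : G)⁻¹)⁻¹ = M.e (x + (b * dt w x) • w) := by
        intro x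
        have h2 : (k * s * (k : G)⁻¹) * M.e x * (k * s * (k : G)⁻¹)⁻¹ =
            k * (s * ((k : G)⁻¹ * M.e x * k) * s⁻¹) * (k : G)⁻¹ := by group
        rw [h2, hk', ha, hk, ap_add, ap_ap_inv, ap_smul, hBw, smul_smul]
        congr 3
        have h3 : dt w (ap B⁻¹ x) = c * dt w x := by
          have h4 := dt_ap B w (ap B⁻¹ x)
          rw [ap_ap_inv, hBw] at h4
          rw [← h4]
          simp only [dt, Pi.smul_apply, smul_eq_mul]; ring
        rw [h3]
        calc a * (c * dt w x) * c = a * c ^ 2 * dt w x := by ring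
          _ = b * dt w x := by rw [hc, mul_div_cancel₀ _ ha0]
      have h5 : ∀ x, t⁻¹ * M.e x * t = M.e (x + (-b * dt w x) • w) := by
        intro x
        have h6 := hb (x + (-b * dt w x) • w)
        have h7 : x + (-b * dt w x) • w + (b * dt w (x + (-b * dt w x) • w)) • w = x := by
          rw [dt_add, dt_smul, dt_self, mul_zero, add_zero, neg_mul, neg_smul]
          abel
        rw [h7] at h6
        rw [← h6]; group
      have h8 : ∀ x, (k * s * (k : G)⁻¹ * t⁻¹) * M.e x * (k * s * (k : G)⁻¹ * t⁻¹)⁻¹ = M.e (x + (0 * dt w x) • w) := by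
        intro x
        have h9 : (k * s * (k : G)⁻¹ * t⁻¹) * M.e x * (k * s * (k : G)⁻¹ * t⁻¹)⁻¹ =
          (k * s * (k : G)⁻¹) * (t⁻¹ * M.e x * t) * (k * s * (k : G)⁻¹)⁻¹ := by group
        rw [h9, h5, h1, dt_add, dt_smul, dt_self, mul_zero, add_zero, neg_mul, neg_smul, zero_mul, zero_smul]
        congr 1
        abel
      exact (hcV _ 0 h8).2 rfl
  · rw [hq]
    have h1 := N.card_V
    rw [Nat.card_congr (subgroupOfEquivOfLe hVP).toEquiv] at h1
    rw [h1, pow_two]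

end

/-! ### From the frame -/

section frame

open Cfsg Cfsg.Agent.ZN Cfsg.Agent.Omega.MinPar Cfsg.Agent.Omega.Frame Cfsg.Agent.Omega.FrameNOFF
open Cfsg.Agent.MinSimple.VModule

variable [Finite G] {S : Sylow 2 G} {P : Subgroup G}

omit [Finite G] in
theorem zc_cj (B : Subgroup G) (g : G) : zc (cj g B) = cj g (zc B) :=
  zc_map (MulAut.conj g).toMonoidHom (MulAut.conj g).injective B

/-- TI for `Ω₁(Z(S))` -/
theorem zc_ti (hti : ∀ z ∈ zc (S : Subgroup G), z ≠ 1 → centralizer ({z} : Set G) ≤ normalizer (zc (S : Subgroup G) : Set G))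
    {g z : G} (hz : z ∈ zc (S : Subgroup G)) (hz' : z ∈ cj g (zc (S : Subgroup G))) (hz1 : z ≠ 1) :
    cj g (zc (S : Subgroup G)) = zc (S : Subgroup G) := by
  have hSN : (S : Subgroup G) ≤ normalizer (zc (S : Subgroup G) : Set G) :=
    (le_centralizer_zc _).trans (centralizer_le_normalizer _)
  have h1 : (S : Subgroup G) ≤ normalizer ((cj g (zc (S : Subgroup G)) : Subgroup G) : Set G) := by
    intro s hs
    rw [← cj_normalizer, mem_cj]
    refine hti _ (mem_cj.1 hz') (fun e => hz1 ?_) ?_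
    · have h2 := congrArg (fun t => g * t * g⁻¹) e
      simpa [mul_assoc] using h2
    · rw [mem_centralizer_singleton_iff]
      have h2 : s * z = z * s := (mem_zc.1 hz).2.1 s hs
      have h3 := congrArg (fun t => g⁻¹ * t * g) h2
      simpa [mul_assoc] using h3
  have h2 : ((g • S : Sylow 2 G) : Subgroup G) ≤ normalizer ((cj g (zc (S : Subgroup G)) : Subgroup G) : Set G) := by
    rw [← cj_normalizer]
    exact cj_le_cj.2 hSN
  obtain ⟨m, hm, hmS⟩ := exists_conj h2 h1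
  have h3 : cj m (cj g (S : Subgroup G)) = (S : Subgroup G) := hmS
  have h4 := congrArg zc h3
  rwa [zc_cj, zc_cj, cj_eq_iff.2 hm] at h4

/-- `ws V Z = WW S P` -/
theorem ws_eq_of (hti : ∀ z ∈ zc (S : Subgroup G), z ≠ 1 →
      centralizer ({z} : Set G) ≤ normalizer (zc (S : Subgroup G) : Set G))
    (hS : (S : Subgroup G) ≠ ⊥)
    (hN : ∀ n ∈ normalizer (zc (S : Subgroup G) : Set G), ∃ c ∈ CZ (S : Subgroup G),
      cj n (zl (S : Subgroup G) P) = cj c (zl (S : Subgroup G) P))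
    (hpart : ∀ v ∈ zl (S : Subgroup G) P, v ≠ 1 → ∃ p ∈ P, v ∈ cj p (zc (S : Subgroup G))) :
    ws (zl (S : Subgroup G) P) (zc (S : Subgroup G)) = WW (S : Subgroup G) P := by
  apply le_antisymm
  · refine ws_le fun L hL hZL => ?_
    obtain ⟨g, rfl⟩ := hL
    obtain ⟨z, hz, hz1⟩ : ∃ z ∈ zc (S : Subgroup G), z ≠ 1 := by
      by_contra hcon
      push Not at hcon
      exact MinSimple.Basic.zc_ne_bot S.isPGroup' hS ((eq_bot_iff_forall _).2 hcon)
    have h1 := mem_cj.1 (hZL hz)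
    obtain ⟨p, hp, hzp⟩ := hpart _ h1 (fun e => hz1 (by
      have h2 := congrArg (fun t => g * t * g⁻¹) e
      simpa [mul_assoc] using h2))
    have h2 : z ∈ cj (g * p) (zc (S : Subgroup G)) := by
      rw [← cj_cj, mem_cj]
      exact hzp
    have h3 := zc_ti hti hz h2 hz1
    obtain ⟨c, hc, hcV⟩ := hN (g * p) (cj_eq_iff.1 h3)
    have h4 : cj p (zl (S : Subgroup G) P) = zl (S : Subgroup G) P := cj_eq_iff.2 (le_normalizer_zl _ _ hp)
    rw [← cj_cj, h4] at hcV
    rw [hcV]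
    exact conj_zl_le_WW hc
  · refine NoFF.Lines.W_le fun Q hQ c hc => ?_
    rw [Set.mem_singleton_iff.1 hQ, V_eq_zl]
    have h1 : cj c (zc (S : Subgroup G)) = zc (S : Subgroup G) :=
      cj_eq_iff.2 (centralizer_le_normalizer _ hc)
    have h2 : zc (S : Subgroup G) ≤ zl (S : Subgroup G) P := zc_le_zl _ _
    have h3 : cj c (zc (S : Subgroup G)) ≤ cj c (zl (S : Subgroup G) P) := cj_le_cj.2 h2
    rw [h1] at h3
    exact le_ws ⟨c, rfl⟩ h3

/-- Frattini: `N_G(Z) = C_G(Z) N_G(S)` -/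
theorem hN_of_ns (hns : normalizer ((S : Subgroup G) : Set G) ≤ normalizer (zl (S : Subgroup G) P : Set G)) :
    ∀ n ∈ normalizer (zc (S : Subgroup G) : Set G), ∃ c ∈ CZ (S : Subgroup G),
      cj n (zl (S : Subgroup G) P) = cj c (zl (S : Subgroup G) P) := by
  intro n hn
  have hSC : (S : Subgroup G) ≤ CZ (S : Subgroup G) := le_centralizer_zc _
  have h1 : ((n • S : Sylow 2 G) : Subgroup G) ≤ CZ (S : Subgroup G) := by
    have h2 : cj n (CZ (S : Subgroup G)) = CZ (S : Subgroup G) := by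
      rw [cj_centralizer, cj_eq_iff.2 hn]
    rw [← h2]
    exact cj_le_cj.2 hSC
  obtain ⟨c, hc, hcS⟩ := exists_conj hSC h1
  have h3 : cj c (S : Subgroup G) = cj n (S : Subgroup G) := hcS
  refine ⟨c, hc, ?_⟩
  have h4 : c⁻¹ * n ∈ normalizer ((S : Subgroup G) : Set G) := by
    rw [← cj_eq_iff, ← cj_cj, ← h3, cj_cj, inv_mul_cancel, cj_one]
  have h5 := cj_eq_iff.2 (hns h4)
  rw [← cj_cj] at h5
  have h6 := congrArg (cj c) h5
  rwa [cj_cj, mul_inv_cancel, cj_one] at h6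

variable {F : Type*} [Field F] [Finite F] [CharP F 2]

/-- **`PL` from the frame.** -/
theorem pl_of (h : Hyp S P) (M : NatP F (zl (S : Subgroup G) P) P)
    (hq : Nat.card (zc (S : Subgroup G)) = Nat.card F)
    (hti : ∀ z ∈ zc (S : Subgroup G), z ≠ 1 → centralizer ({z} : Set G) ≤ normalizer (zc (S : Subgroup G) : Set G))
    (hN : ∀ n ∈ normalizer (zc (S : Subgroup G) : Set G), ∃ c ∈ CZ (S : Subgroup G),
      cj n (zl (S : Subgroup G) P) = cj c (zl (S : Subgroup G) P)) :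
    PL S P (zl (S : Subgroup G) P) (zc (S : Subgroup G)) ∧
      ws (zl (S : Subgroup G) P) (zc (S : Subgroup G)) = WW (S : Subgroup G) P := by
  have h1 : PL S P (zl (S : Subgroup G) P) (zc (S : Subgroup G)) := by
    refine pl_of_nat h.star.isLoc.le (le_normalizer_zl _ _) h.V_le_S (zc_le_zl _ _)
      (fun z hz s hs => (mem_zc.1 hz).2.1 s hs)
      (fun x hx hx2 hxs => mem_zc.2 ⟨hx, hxs, by rw [pow_two]; exact hx2⟩) M hq (fun hpart => ?_)
      (fun z hz hz1 g hg => hti z hz hz1 (mem_centralizer_singleton_iff.2 hg))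
    rw [ws_eq_of hti h.ne hN hpart]
    exact h.W_comm
  exact ⟨h1, ws_eq_of hti h.ne hN h1.part⟩

/-- **`PL` for `|Z| = |F|` from `Uniq S P`** (helper44's LEMMA UNIQ). -/
theorem pl_of_uniq (h : Hyp S P) (hU : Uniq (S : Subgroup G) P) (M : NatP F (zl (S : Subgroup G) P) P)
    (hq : Nat.card (zc (S : Subgroup G)) = Nat.card F) :
    PL S P (zl (S : Subgroup G) P) (zc (S : Subgroup G)) ∧
      ws (zl (S : Subgroup G) P) (zc (S : Subgroup G)) = WW (S : Subgroup G) P :=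
  pl_of h M hq (fun _ hz hz1 => hU.ti hz hz1) (hN_of_ns (hU.ns h.star))

/-- **(T6)** from `J(S) ≰ O₂(P)`. -/
theorem omQ_of_jnot {V Z : Subgroup G} (h : PL S P V Z) (hV : (S : Subgroup G) ⊓ centralizer (V : Set G) ≤ o2 P)
    (hj : ¬ jj (S : Subgroup G) ≤ o2 P) : OmQ S V := by
  refine h.omQ ?_
  by_contra hcon
  push Not at hcon
  apply hj
  rw [jj, PLocal.ThompsonJ.thompsonSubgroupOf_sylow_eq]
  refine sSup_le ?_
  rintro A ⟨hA, hAS⟩
  refine le_trans (le_inf hAS ?_) hV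
  refine hcon A hAS ⟨⟨fun a ha => mem_centralizer_iff.2 fun b hb =>
    PLocal.ThompsonJ.isElementaryAbelian_comm hA.1 hb ha, hA.1.2⟩, fun B hB => hA.2 B ?_⟩
  exact PLocal.ThompsonJ.isElementaryAbelian_iff.2 ⟨fun a ha b hb =>
    (mem_centralizer_iff.1 (hB.comm ha) b hb).symm, hB.sq⟩

/-- (T6) in the frame -/
theorem omQ_of_hypJ (h : HypJ S P) (hp : PL S P (zl (S : Subgroup G) P) (zc (S : Subgroup G))) :
    OmQ S (zl (S : Subgroup G) P) :=
  omQ_of_jnot hp h.toHypN.toHyp.inf_centralizer.le h.jnot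

/-- `|V_P| = 4`: `N_G(Z) = C_G(Z)` -/
theorem hN_four (h : Hyp S P) (hc : Nat.card (zl (S : Subgroup G) P) = 4) :
    ∀ n ∈ normalizer (zc (S : Subgroup G) : Set G), ∃ c ∈ CZ (S : Subgroup G),
      cj n (zl (S : Subgroup G) P) = cj c (zl (S : Subgroup G) P) := by
  intro n hn
  refine ⟨n, ?_, rfl⟩
  obtain ⟨z, hz, hz1⟩ : ∃ z ∈ zc (S : Subgroup G), z ≠ 1 := by
    by_contra hcon
    push Not at hcon
    exact h.zc_ne ((eq_bot_iff_forall _).2 hcon)
  rw [mem_CZ_four h.ctx h.star h.nonLoc hc hz hz1]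
  have h1 : n * z * n⁻¹ ∈ zc (S : Subgroup G) := (mem_normalizer_iff.1 hn z).1 hz
  have h2 : n * z * n⁻¹ ≠ 1 := fun e => hz1 (conj_eq_one_iff.1 e)
  exact mul_inv_eq_iff_eq_mul.1 (eq_of_zc_four h.ctx h.star h.nonLoc hc hz hz1 h1 h2)

/-- **`PL` for `|V_P| = 4`.** -/
theorem pl_four (h : Hyp S P) (hc : Nat.card (zl (S : Subgroup G) P) = 4) (M : NatP F (zl (S : Subgroup G) P) P)
    (hq : Nat.card (zc (S : Subgroup G)) = Nat.card F) :
    PL S P (zl (S : Subgroup G) P) (zc (S : Subgroup G)) ∧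
      ws (zl (S : Subgroup G) P) (zc (S : Subgroup G)) = WW (S : Subgroup G) P := by
  refine pl_of h M hq (fun z hz hz1 g hg => ?_) (hN_four h hc)
  have h1 := (mem_CZ_four h.ctx h.star h.nonLoc hc hz hz1).2 (mem_centralizer_singleton_iff.1 hg)
  exact centralizer_le_normalizer _ h1

end frame

end Cfsg.Agent.Omega.NO3S.PT
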